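import Groth.Agent.SiteBase.EtExcision.ShriekStalk
import Groth.Agent.EtFound.AbRecollement
import Mathlib.CategoryTheory.Functor.ReflectsIso.Limits
import Mathlib.CategoryTheory.Adjunction.AdjointFunctorTheorems

/-!
# Exactness of direct image with proper support for quasi-finite morphisms
-/

set_option autoImplicit false

universe u

open CategoryTheory CategoryTheory.Limits AlgebraicGeometry Opposite

namespace Groth.Agent.EtExcision

set_option backward.isDefEq.respectTransparency.types false

/-- Geometric points with algebraically closed fields. -/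
structure AlgPt (Y : Scheme.{u}) : Type (u + 1) where
  /-- the field -/
  Ω : Type u
  [field : Field Ω]
  [alg : IsAlgClosed Ω]
  /-- the point -/
  pt : Spec (CommRingCat.of Ω) ⟶ Y

attribute [instance] AlgPt.field AlgPt.alg

variable {X Y : Scheme.{u}}

/-- Stalks at algebraically closed geometric points detect isomorphisms. -/
theorem jointlyReflect_algPt (Y : Scheme.{u}) :
    JointlyReflectIsomorphisms (fun p : AlgPt Y => EtCoh.stalk p.pt) where
  isIso {F G} a ha := by
    refine (EtFound.isIso_iff_stalks a).2 fun k _ _ ξ => ?_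
    let K := AlgebraicClosure k
    let l : Spec (CommRingCat.of K) ⟶ Spec (CommRingCat.of k) :=
      Spec.map (CommRingCat.ofHom (algebraMap k K))
    have : IsIso ((EtCoh.stalk (l ≫ ξ)).map a) := ha ⟨K, l ≫ ξ⟩
    exact (NatIso.isIso_map_iff (EtFound.stalkExtIso AddCommGrpCat.{u + 1} ξ l) a).2 this

variable (f : X ⟶ Y) [IsSeparated f] [LocallyOfFiniteType f] [LocallyQuasiFinite f]

theorem preservesColimitsOfShape_lowerShriek (K : Type (u + 1)) [Category.{u + 1} K] :
    PreservesColimitsOfShape K (EtShriek.lowerShriek f) := by
  have h : PreservesColimitsOfShape K (shrF f) := by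
    refine ⟨fun {G} => ⟨fun {c} hc => ⟨(jointlyReflect_algPt Y).jointlyReflectsColimit fun p => ?_⟩⟩⟩
    have : PreservesColimitsOfShape K (fibreStalks f p.pt) :=
      preservesColimitsOfShape_of_evaluation _ _ fun z =>
        inferInstanceAs (PreservesColimitsOfShape K (EtCoh.stalk z.as.1))
    have := preservesColimitsOfShape_of_natIso (J := K) (shrStalkIso f p.pt).symm
    exact isColimitOfPreserves (shrF f ⋙ EtCoh.stalk p.pt) hc
  exact preservesColimitsOfShape_of_natIso (lowerShriekIso f).symm

theorem preservesLimitsOfShape_lowerShriek (K : Type) [SmallCategory K] [FinCategory K] :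
    PreservesLimitsOfShape K (EtShriek.lowerShriek f) := by
  have h : PreservesLimitsOfShape K (shrF f) := by
    refine ⟨fun {G} => ⟨fun {c} hc => ⟨(jointlyReflect_algPt Y).jointlyReflectsLimit fun p => ?_⟩⟩⟩
    have : PreservesLimitsOfShape K (fibreStalks f p.pt) :=
      preservesLimitsOfShape_of_evaluation _ _ fun z =>
        inferInstanceAs (PreservesLimitsOfShape K (EtCoh.stalk z.as.1))
    have : AB4OfSize.{u} AddCommGrpCat.{u + 1} := AB4.of_AB5 _
    have : HasExactColimitsOfShape (Discrete (Pts f p.pt)) AddCommGrpCat.{u + 1} := inferInstance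
    have hc' : PreservesFiniteLimits (colim : (Discrete (Pts f p.pt) ⥤ AddCommGrpCat.{u + 1}) ⥤ _) :=
      HasExactColimitsOfShape.preservesFiniteLimits
    have : PreservesLimitsOfShape K (fibreStalks f p.pt ⋙
        (colim : (Discrete (Pts f p.pt) ⥤ AddCommGrpCat.{u + 1}) ⥤ _)) :=
      comp_preservesLimitsOfShape _ _
    have := preservesLimitsOfShape_of_natIso (J := K) (shrStalkIso f p.pt).symm
    exact isLimitOfPreserves (shrF f ⋙ EtCoh.stalk p.pt) hc
  exact preservesLimitsOfShape_of_natIso (lowerShriekIso f).symm

theorem preservesFiniteLimits_lowerShriek : PreservesFiniteLimits (EtShriek.lowerShriek f) :=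
  ⟨fun K _ _ => preservesLimitsOfShape_lowerShriek f K⟩

theorem preservesColimits_lowerShriek :
    PreservesColimitsOfSize.{u + 1, u + 1} (EtShriek.lowerShriek f) :=
  ⟨fun {K} _ => preservesColimitsOfShape_lowerShriek f K⟩

theorem preservesFiniteColimits_lowerShriek : PreservesFiniteColimits (EtShriek.lowerShriek f) :=
  have := preservesColimits_lowerShriek f
  PreservesColimitsOfSize.preservesFiniteColimits _

theorem isLeftAdjoint_lowerShriek : (EtShriek.lowerShriek f).IsLeftAdjoint :=
  have := preservesColimits_lowerShriek f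
  isLeftAdjoint_of_preservesColimits_of_isSeparating (isSeparator_separator (EtCoh.Ab X)) _

end Groth.Agent.EtExcision
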