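import Groth.Agent.SiteBase.EtExcision.Graph
import Groth.Agent.SiteBase.EtExcision.Lqf

/-!
# Extension by zero and direct image with proper support for separated étale morphisms
-/

set_option autoImplicit false

universe u

open CategoryTheory CategoryTheory.Limits AlgebraicGeometry Opposite

namespace Groth.Agent.EtExcision

set_option backward.isDefEq.respectTransparency.types false

variable {U X : Scheme.{u}} (j : U ⟶ X) [AlgebraicGeometry.Etale j] [IsSeparated j] [EtShriek.JCont j]

omit [IsSeparated j] [EtShriek.JCont j] in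
instance lqf_of_etale : LocallyQuasiFinite j := by
  rw [HasRingHomProperty.iff_appLE (P := @LocallyQuasiFinite)]
  intro U₀ W₀ e'
  have := HasRingHomProperty.appLE @AlgebraicGeometry.Etale j inferInstance U₀ W₀ e'
  algebraize [(j.appLE U₀.1 W₀.1 e').hom]
  exact (inferInstance : Algebra.QuasiFinite Γ(X, U₀.1) Γ(U, W₀.1))

/-- Extension of sections from the graph, as a map of sheaves. -/
noncomputable def grHom (F : EtCoh.Ab U) : F ⟶ (EtShriek.restrAlong j).obj ((shrF j).obj F) :=
  ObjectProperty.homMk
    { app := fun W => AddCommGrpCat.ofHom (AddMonoidHom.mk'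
        (fun s : EtCoh.sect F W.unop => (⟨grSect j F W.unop s,
          AddSubgroup.subset_closure (shriekPred_grSect j F W.unop s)⟩ :
            EtShriek.shriekSubgroup j F ((EtShriek.compEtale j).obj W.unop)))
        fun (s t : EtCoh.sect F W.unop) => Subtype.ext (grSect_add j F W.unop s t))
      naturality := fun W W' g => ConcreteCategory.hom_ext _ _ fun s =>
        Subtype.ext (grSect_res j F g.unop s).symm }

lemma grHom_val (F : EtCoh.Ab U) (W : U.Etale) (s : EtCoh.sect F W) :
    ((grHom j F).hom.app (op W) s).1 = grSect j F W s := rfl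

lemma grHom_naturality {F G : EtCoh.Ab U} (a : F ⟶ G) :
    a ≫ grHom j G = grHom j F ≫ (EtShriek.restrAlong j).map ((shrF j).map a) :=
  Sheaf.hom_ext (NatTrans.ext (funext fun W => ConcreteCategory.hom_ext _ _ fun s =>
    Subtype.ext (grSect_map j a W.unop s).symm))

/-- The comparison map. -/
noncomputable def extZeroToShr : EtShriek.extZero j ⟶ shrF j where
  app F := ((EtShriek.extZeroAdj j).homEquiv F ((shrF j).obj F)).symm (grHom j F)
  naturality F G a := by
    refine ((EtShriek.extZeroAdj j).homEquiv_naturality_left_symm a (grHom j G)).symm.trans ?_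
    rw [grHom_naturality]
    exact (EtShriek.extZeroAdj j).homEquiv_naturality_right_symm (grHom j F) ((shrF j).map a)

lemma unit_extZeroToShr (F : EtCoh.Ab U) :
    (EtShriek.extZeroAdj j).unit.app F ≫ (EtShriek.restrAlong j).map ((extZeroToShr j).app F) = grHom j F :=
  ((EtShriek.extZeroAdj j).homEquiv_unit F _ _).symm.trans (Equiv.apply_symm_apply _ _)

lemma extZeroToShr_unit_apply (F : EtCoh.Ab U) (W : U.Etale) (s : EtCoh.sect F W) :
    ((extZeroToShr j).app F).hom.app (op ((EtShriek.compEtale j).obj W))
      (((EtShriek.extZeroAdj j).unit.app F).hom.app (op W) s) = (grHom j F).hom.app (op W) s :=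
  ConcreteCategory.congr_hom
    (congrArg (fun m : F ⟶ (EtShriek.restrAlong j).obj ((shrF j).obj F) => m.hom.app (op W))
      (unit_extZeroToShr j F)) s

variable {Ω : Type u} [Field Ω] [IsAlgClosed Ω] {η : Spec (CommRingCat.of Ω) ⟶ X}

theorem liftPt_extLiftPt_self (z : Pts j η) (W : U.Etale) (w : (Scheme.pointSmallEtale z.1).fiber.obj W) :
    (Scheme.pointSmallEtale z.1).fiber.map (gr j W) w =
      EtFound.liftPt j z.2 (EtFound.extLiftPt (j := j) (ξ := η) z W w) :=
  CategoryTheory.Over.OverMorphism.ext (pullback.hom_ext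
    (((Category.assoc _ _ _).trans ((congrArg (_ ≫ ·) (gr_prV j W)).trans (Category.comp_id _))).trans
      (EtFound.liftPt_fst j z.2 (EtFound.extLiftPt (j := j) (ξ := η) z W w)).symm)
    ((CategoryTheory.Over.w ((Scheme.pointSmallEtale z.1).fiber.map (gr j W) w)).trans
      (CategoryTheory.Over.w (EtFound.liftPt j z.2 (EtFound.extLiftPt (j := j) (ξ := η) z W w))).symm))

theorem notMem_grSet {z z' : Pts j η} (hne : z ≠ z') (W : U.Etale)
    (w : (Scheme.pointSmallEtale z.1).fiber.obj W) :
    ((EtFound.liftPt j z'.2 (EtFound.extLiftPt (j := j) (ξ := η) z W w)).left :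
      Spec (CommRingCat.of Ω) ⟶ (bcExt j W).left).base (default : Spec (CommRingCat.of Ω)) ∉ grSet j W := by
  intro hmem
  let L := ((EtFound.liftPt j z'.2 (EtFound.extLiftPt (j := j) (ξ := η) z W w)).left :
      Spec (CommRingCat.of Ω) ⟶ (bcExt j W).left)
  have hr : Set.range L.base ⊆ Set.range (gr j W).left.base := by
    rintro _ ⟨x, rfl⟩
    have hx : x = (default : Spec (CommRingCat.of Ω)) :=
      Subsingleton.elim (α := ↥(Spec (CommRingCat.of Ω))) _ _
    rw [hx]
    exact hmem
  have hl : IsOpenImmersion.lift (gr j W).left L hr ≫ (gr j W).left = L := IsOpenImmersion.lift_fac _ _ _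
  have e1 : IsOpenImmersion.lift (gr j W).left L hr = (w.left : Spec (CommRingCat.of Ω) ⟶ W.left) := by
    refine ((Category.comp_id _).symm.trans ((congrArg (_ ≫ ·) (gr_prV j W).symm).trans
      ((Category.assoc _ _ _).symm.trans ((congrArg (· ≫ _) hl).trans ?_))))
    exact EtFound.liftPt_fst j z'.2 _
  refine hne (Subtype.ext ((CategoryTheory.Over.w w).symm.trans (Eq.trans ?_
    (CategoryTheory.Over.w (EtFound.liftPt j z'.2 (EtFound.extLiftPt (j := j) (ξ := η) z W w))))))
  show (w.left : Spec (CommRingCat.of Ω) ⟶ W.left) ≫ W.hom = L ≫ (bcExt j W).hom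
  rw [← hl, e1]
  exact (congrArg (_ ≫ ·) (MorphismProperty.Over.w (gr j W)).symm).trans (Category.assoc _ _ _).symm

open Classical in
theorem gz_extZeroι (F : EtCoh.Ab U) (z z' : Pts j η) (a : (EtCoh.stalk z.1).obj F) :
    gz j F z' ((EtCoh.stalk η).map ((extZeroToShr j).app F) (EtFound.extZeroι j η F z a)) =
      if h : z = z' then h ▸ a else 0 := by
  obtain ⟨W, w, s, rfl⟩ := (Scheme.pointSmallEtale z.1).toPresheafFiber_jointly_surjective a
  have e : (EtCoh.stalk η).map ((extZeroToShr j).app F)
      (EtFound.extZeroι j η F z ((Scheme.pointSmallEtale z.1).toPresheafFiber W w F.obj s)) =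
      (Scheme.pointSmallEtale η).toPresheafFiber ((EtShriek.compEtale j).obj W) (EtFound.extLiftPt z W w)
        ((shrF j).obj F).obj ((grHom j F).hom.app (op W) s) := by
    rw [← extZeroToShr_unit_apply]
    refine Eq.trans (congrArg ((EtCoh.stalk η).map ((extZeroToShr j).app F))
      (((ConcreteCategory.comp_apply _ _ s).symm.trans
        (ConcreteCategory.congr_hom (EtFound.extZeroι_germ j η F z W w) s)).trans
          (ConcreteCategory.comp_apply _ _ s))) ?_
    exact (Scheme.pointSmallEtale η).toPresheafFiber_naturality_apply ((extZeroToShr j).app F).hom _ _ _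
  refine (congrArg (gz j F z') e).trans ((gz_germ j z' _ _ _).trans ?_)
  by_cases h : z = z'
  · subst h
    rw [dif_pos rfl, ← liftPt_extLiftPt_self]
    refine ((Scheme.pointSmallEtale z.1).toPresheafFiber_w_apply (gr j W) w F.obj _).symm.trans ?_
    exact congrArg ((Scheme.pointSmallEtale z.1).toPresheafFiber W w F.obj) (res_grSect j F W s)
  · rw [dif_neg h]
    exact (germ_eq_zero_iff _ _ _).2 fun hm => notMem_grSet j h W w (sectSupp_grSect j F W s hm)

theorem extZeroι_extZeroToShr_apply (F : EtCoh.Ab U) (z : Pts j η) (a : (EtCoh.stalk z.1).obj F) :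
    (EtCoh.stalk η).map ((extZeroToShr j).app F) (EtFound.extZeroι j η F z a) = dl j F z a :=
  gz_ext j (F := F) fun z' => (gz_extZeroι j F z z' a).trans (gz_dl j F z z' a).symm

theorem extZeroι_extZeroToShr (F : EtCoh.Ab U) (z : Pts j η) :
    EtFound.extZeroι j η F z ≫ (EtCoh.stalk η).map ((extZeroToShr j).app F) = dlHom j F z := by
  refine ConcreteCategory.hom_ext _ _ fun a => ?_
  rw [ConcreteCategory.comp_apply]
  exact extZeroι_extZeroToShr_apply j F z a

variable (η) in
theorem isIso_stalk_extZeroToShr (F : EtCoh.Ab U) :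
    IsIso ((EtCoh.stalk η).map ((extZeroToShr j).app F)) := by
  let e := (EtFound.extZeroCofanIsColimit j η F).coconePointUniqueUpToIso (cofanIsColimit j F (η := η))
  have h : (EtCoh.stalk η).map ((extZeroToShr j).app F) = e.hom :=
    Cofan.IsColimit.hom_ext (EtFound.extZeroCofanIsColimit j η F) _ _ fun z =>
      (extZeroι_extZeroToShr j F z).trans
        ((EtFound.extZeroCofanIsColimit j η F).comp_coconePointUniqueUpToIso_hom (cofanIsColimit j F) ⟨z⟩).symm
  rw [h]
  infer_instance

instance isIso_extZeroToShr : IsIso (extZeroToShr j) := by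
  have : ∀ F, IsIso ((extZeroToShr j).app F) := fun F =>
    have : ∀ p : AlgPt X, IsIso ((EtCoh.stalk p.pt).map ((extZeroToShr j).app F)) :=
      fun p => isIso_stalk_extZeroToShr j p.pt F
    (jointlyReflect_algPt X).isIso _
  exact NatIso.isIso_of_isIso_app _

/-- Extension by zero is the direct image with proper support. -/
noncomputable def extZeroShrIso : EtShriek.extZero j ≅ EtShriek.lowerShriek j :=
  asIso (extZeroToShr j) ≪≫ (lowerShriekIso j).symm

end Groth.Agent.EtExcision
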