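import Groth.Agent.SiteBase.EtExcision.Comp
import Groth.Agent.SiteBase.EtExcision.ExtZeroCmp

/-!
# Direct image with proper support and compactifications
-/

set_option autoImplicit false

universe u

open CategoryTheory CategoryTheory.Limits AlgebraicGeometry Opposite

namespace Groth.Agent.EtExcision

set_option backward.isDefEq.respectTransparency.types false

variable {X Y : Scheme.{u}}

theorem isProperOver_of_isProper (p : X ⟶ Y) [IsProper p] {Z : Set X} (hZ : IsClosed Z) :
    ClSub.IsProperOver p Z :=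
  ⟨hZ, inferInstanceAs (IsProper ((Scheme.IdealSheafData.vanishingIdeal ⟨Z, hZ⟩).subschemeι ≫ p))⟩

theorem mem_shriekSubgroup_of_isProper (f : X ⟶ Y) [IsProper f] (F : EtCoh.Ab X) (V : Y.Etale)
    (s : EtCoh.sect F ((EtCoh.bc f).obj V)) : s ∈ EtShriek.shriekSubgroup f F V := by
  have : IsProper (EtShriek.prV f V) := inferInstanceAs (IsProper (pullback.fst V.hom f))
  exact AddSubgroup.subset_closure ((shriekPred_iff f F V s).2 (isProperOver_of_isProper _ (isClosed_sectSupp s)))

/-- For a proper morphism every section has proper support. -/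
noncomputable def shrιIso (f : X ⟶ Y) [IsProper f] : shrF f ≅ EtCoh.push f :=
  NatIso.ofComponents (fun F => (fullyFaithfulSheafToPresheaf Y.smallEtaleTopology AddCommGrpCat.{u + 1}).preimageIso
    (NatIso.ofComponents (fun V => ({
      toFun := Subtype.val
      invFun := fun s => ⟨s, mem_shriekSubgroup_of_isProper f F V.unop s⟩
      left_inv := fun _ => rfl
      right_inv := fun _ => rfl
      map_add' := fun _ _ => rfl } :
        EtShriek.shriekSubgroup f F V.unop ≃+ EtCoh.sect F ((EtCoh.bc f).obj V.unop)).toAddCommGrpIso)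
      fun {V W} a => ConcreteCategory.hom_ext _ _ fun _ => rfl))
    fun {F G} a => Sheaf.hom_ext (NatTrans.ext (funext fun V => ConcreteCategory.hom_ext _ _ fun _ => rfl))

/-- For a proper morphism the direct image with proper support is the direct image. -/
noncomputable def lowerShriekPushIso (f : X ⟶ Y) [IsProper f] : EtShriek.lowerShriek f ≅ EtCoh.push f :=
  lowerShriekIso f ≪≫ shrιIso f

/-- Compactifications compute the direct image with proper support. -/
theorem lowerShriek_compactify {Xb : Scheme.{u}} (j : X ⟶ Xb) [IsOpenImmersion j] (fb : Xb ⟶ Y) [IsProper fb]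
    [EtShriek.JCont j] : Nonempty (EtShriek.lowerShriek (j ≫ fb) ≅ EtShriek.extZero j ⋙ EtCoh.push fb) :=
  ⟨lowerShriekCompIso j fb ≪≫ Functor.isoWhiskerRight (extZeroShrIso j).symm _ ≪≫
    Functor.isoWhiskerLeft _ (lowerShriekPushIso fb)⟩

theorem isProperOver_comp_proper_iff {A B C : Scheme.{u}} (p : A ⟶ B) (q : B ⟶ C) [LocallyOfFiniteType p]
    [IsProper q] (Z : Set A) : ClSub.IsProperOver (p ≫ q) Z ↔ ClSub.IsProperOver p Z :=
  ⟨fun h => isProperOver_of_comp rfl h,
    fun h => isProperOver_comp rfl h (isProperOver_of_isProper q (isClosed_image_of_isProperOver h))⟩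

theorem isProperOver_iso_iff {A A' B : Scheme.{u}} (e : A ≅ A') (p : A' ⟶ B) [LocallyOfFiniteType p]
    (Z : Set A') : ClSub.IsProperOver (e.hom ≫ p) (⇑e.hom ⁻¹' Z) ↔ ClSub.IsProperOver p Z := by
  refine ⟨fun h => ?_, fun h => QCoh.IsProperOver.preimage rfl h⟩
  have := QCoh.IsProperOver.preimage (p := p) (f := e.inv) (e.inv_hom_id_assoc p) h
  rw [← Set.preimage_comp, show ⇑e.hom ∘ ⇑e.inv = id from funext fun x =>
    (Scheme.Hom.comp_apply _ _ x).symm.trans (by rw [e.inv_hom_id]; rfl), Set.preimage_id] at this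
  exact this

section Global

variable (j : X ⟶ Y)

instance isIso_snd_top : IsIso (pullback.snd (EtCoh.top Y).hom j) := by
  have : IsIso (EtCoh.top Y).hom := inferInstanceAs (IsIso (𝟙 Y))
  infer_instance

/-- The base change of the final object. -/
noncomputable def bcTopIso : (EtCoh.bc j).obj (EtCoh.top Y) ≅ EtCoh.top X :=
  MorphismProperty.Over.isoMk
    (@asIso _ _ _ _ (pullback.snd (EtCoh.top Y).hom j : pullback (EtCoh.top Y).hom j ⟶ X) (isIso_snd_top j))
    (Category.comp_id _)

lemma bcTopIso_hom_comp : (bcTopIso j).hom.left ≫ j = EtShriek.prV j (EtCoh.top Y) :=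
  show pullback.snd (EtCoh.top Y).hom j ≫ j = pullback.fst (EtCoh.top Y).hom j from
  (pullback.condition (f := (EtCoh.top Y).hom) (g := j)).symm.trans (Category.comp_id _)

lemma res_bcTop_inv_hom (F : EtCoh.Ab X) (s : EtCoh.sect F (EtCoh.top X)) :
    res F (bcTopIso j).inv (res F (bcTopIso j).hom s) = s :=
  (res_res F _ _ s).trans ((congrArg (fun m => res F m s) (bcTopIso j).inv_hom_id).trans (res_id F s))

lemma res_bcTop_hom_inv (F : EtCoh.Ab X) (s : EtCoh.sect F ((EtCoh.bc j).obj (EtCoh.top Y))) :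
    res F (bcTopIso j).hom (res F (bcTopIso j).inv s) = s :=
  (res_res F _ _ s).trans ((congrArg (fun m => res F m s) (bcTopIso j).hom_inv_id).trans (res_id F s))

variable {k : Type u} [Field k] [IsSeparated j] [LocallyOfFiniteType j]
  (pb : Y ⟶ Spec (CommRingCat.of k)) [IsProper pb]

lemma shriekPred_top_iff (F : EtCoh.Ab X) (s : EtCoh.sect F (EtCoh.top X)) :
    EtShriek.ShriekPred j F (EtCoh.top Y) (res F (bcTopIso j).hom s) ↔
      EtShriek.HasProperSupport F (EtCoh.top X) s (j ≫ pb) := by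
  let e := @asIso _ _ _ _ (pullback.snd (EtCoh.top Y).hom j : pullback (EtCoh.top Y).hom j ⟶ X) (isIso_snd_top j)
  rw [shriekPred_iff, sectSupp_res]
  refine ((iff_of_eq (congrArg (fun m : pullback (EtCoh.top Y).hom j ⟶ Y => ClSub.IsProperOver m _)
    (bcTopIso_hom_comp j).symm)).trans
      ((isProperOver_iso_iff e j (EtShriek.sectSupp F (EtCoh.top X) s)).trans
        (isProperOver_comp_proper_iff j pb _).symm)).trans ?_
  exact ⟨fun h => ⟨_, subset_rfl, h⟩, fun ⟨Z, hZ, hP⟩ => QCoh.IsProperOver.subset hP (isClosed_sectSupp s) hZ⟩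

theorem map_H0c (F : EtCoh.Ab X) :
    (EtShriek.H0c (j ≫ pb) F).map (F.obj.map (bcTopIso j).hom.op).hom =
      EtShriek.shriekSubgroup j F (EtCoh.top Y) := by
  rw [EtShriek.H0c, AddMonoidHom.map_closure]
  refine congrArg AddSubgroup.closure (Set.ext fun t => ⟨?_, fun ht => ?_⟩)
  · rintro ⟨s, hs, rfl⟩
    exact (shriekPred_top_iff j pb F s).2 hs
  · refine ⟨res F (bcTopIso j).inv t, (shriekPred_top_iff j pb F _).1 ?_, res_bcTop_hom_inv j F t⟩
    rw [res_bcTop_hom_inv]
    exact ht

/-- Sections with compact support as global sections. -/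
noncomputable def h0cEquiv (F : EtCoh.Ab X) :
    EtShriek.H0c (j ≫ pb) F ≃+ EtCoh.sect ((shrF j).obj F) (EtCoh.top Y) :=
  ((EtShriek.H0c (j ≫ pb) F).equivMapOfInjective (F.obj.map (bcTopIso j).hom.op).hom
    (Function.LeftInverse.injective (res_bcTop_inv_hom j F))).trans
      (AddEquiv.addSubgroupCongr (map_H0c j pb F))

end Global

theorem h0c_compactify {k : Type u} [Field k] {Xb : Scheme.{u}} (j : X ⟶ Xb) [IsOpenImmersion j]
    (pb : Xb ⟶ Spec (CommRingCat.of k)) [IsProper pb] [EtShriek.JCont j] (F : EtCoh.Ab X) :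
    Nonempty (EtShriek.H0c (j ≫ pb) F ≃+ EtCoh.sect ((EtShriek.extZero j).obj F) (EtCoh.top Xb)) :=
  ⟨(h0cEquiv j pb F).trans
    (((sheafToPresheaf _ _).mapIso (((extZeroShrIso j ≪≫ lowerShriekIso j).app F).symm)).app
      (op (EtCoh.top Xb))).addCommGroupIsoToAddEquiv⟩

end Groth.Agent.EtExcision
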