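import Groth.Agent.SiteBase.EtExcision.Delta

/-!
# Stalks of direct images with proper support along quasi-finite morphisms
-/

set_option autoImplicit false

universe u

open CategoryTheory CategoryTheory.Limits AlgebraicGeometry Opposite

noncomputable section

namespace Groth.Agent.EtExcision

set_option backward.isDefEq.respectTransparency.types false

variable {X Y : Scheme.{u}} (f : X ⟶ Y) [IsSeparated f] [LocallyOfFiniteType f] [LocallyQuasiFinite f]
  {Ω : Type u} [Field Ω] [IsAlgClosed Ω] {η : Spec (CommRingCat.of Ω) ⟶ Y}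

omit [IsSeparated f] in
theorem gz_ext {F : EtCoh.Ab X} {p q : (EtCoh.stalk η).obj ((shrF f).obj F)}
    (h : ∀ z : Pts f η, gz f F z p = gz f F z q) : p = q :=
  sub_eq_zero.1 (gz_injective f F (p - q) fun z => (map_sub (gz f F z).hom p q).trans (sub_eq_zero.2 (h z)))

/-- The germ supported at one point of the fibre. -/
def dl (F : EtCoh.Ab X) (z : Pts f η) (a : (EtCoh.stalk z.1).obj F) : (EtCoh.stalk η).obj ((shrF f).obj F) :=
  (exists_delta f F z a).choose

open Classical in
lemma gz_dl (F : EtCoh.Ab X) (z z' : Pts f η) (a : (EtCoh.stalk z.1).obj F) :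
    gz f F z' (dl f F z a) = if h : z = z' then h ▸ a else 0 := by
  by_cases h : z = z'
  · subst h
    rw [dif_pos rfl]
    exact (exists_delta f F z a).choose_spec.1
  · rw [dif_neg h]
    exact (exists_delta f F z a).choose_spec.2 z' (Ne.symm h)

/-- The inclusion of the stalk at one point of the fibre. -/
def dlHom (F : EtCoh.Ab X) (z : Pts f η) : (EtCoh.stalk z.1).obj F ⟶ (EtCoh.stalk η).obj ((shrF f).obj F) :=
  AddCommGrpCat.ofHom (AddMonoidHom.mk' (dl f F z) fun (a b : (EtCoh.stalk z.1).obj F) => gz_ext f fun z' => by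
    refine Eq.trans ?_ (map_add (gz f F z').hom (dl f F z a) (dl f F z b)).symm
    refine (gz_dl f F z z' (a + b)).trans ?_
    refine Eq.trans ?_ (congrArg₂ (· + ·) (gz_dl f F z z' a).symm (gz_dl f F z z' b).symm)
    by_cases h : z = z'
    · subst h
      simp
    · simp [h])

lemma dlHom_naturality {F G : EtCoh.Ab X} (a : F ⟶ G) (z : Pts f η) :
    (EtCoh.stalk z.1).map a ≫ dlHom f G z = dlHom f F z ≫ (EtCoh.stalk η).map ((shrF f).map a) :=
  ConcreteCategory.hom_ext _ _ fun x => gz_ext f fun z' => by
    refine (gz_dl f G z z' _).trans (Eq.symm ?_)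
    refine (ConcreteCategory.congr_hom (gz_naturality f a z') (dl f F z x)).trans ?_
    show (EtCoh.stalk z'.1).map a (gz f F z' (dl f F z x)) = _
    rw [gz_dl]
    by_cases h : z = z'
    · subst h
      simp
      rfl
    · simp [h]

/-- The stalk of the direct image with proper support is the sum of the stalks at the points of the fibre. -/
def cofanIsColimit (F : EtCoh.Ab X) :
    IsColimit (Cofan.mk ((EtCoh.stalk η).obj ((shrF f).obj F)) (dlHom f F (η := η))) :=
  Cofan.IsColimit.mk _
    (fun s => AddCommGrpCat.ofHom (AddMonoidHom.mk'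
      (fun p : (EtCoh.stalk η).obj ((shrF f).obj F) => ((∑ᶠ z : Pts f η, s.inj z (gz f F z p)) : s.pt))
      fun (p q : (EtCoh.stalk η).obj ((shrF f).obj F)) => by
      refine Eq.trans (finsum_congr fun z => (congrArg (s.inj z).hom (map_add (gz f F z).hom p q)).trans
        (map_add (s.inj z).hom _ _)) ?_
      refine finsum_add_distrib ?_ ?_
      · exact (gz_finite f F p).subset fun z hz h => hz (by show s.inj z (gz f F z p) = 0; rw [h, map_zero])
      · exact (gz_finite f F q).subset fun z hz h => hz (by show s.inj z (gz f F z q) = 0; rw [h, map_zero])))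
    (fun s z => ConcreteCategory.hom_ext _ _ fun a => by
      show ∑ᶠ z' : Pts f η, s.inj z' (gz f F z' (dl f F z a)) = s.inj z a
      rw [finsum_eq_single _ z fun z' hz' => by rw [gz_dl, dif_neg (Ne.symm hz'), map_zero], gz_dl, dif_pos rfl])
    (fun s m hm => ConcreteCategory.hom_ext _ _ fun p => by
      classical
      show m p = ∑ᶠ z : Pts f η, s.inj z (gz f F z p)
      let S := (gz_finite f F p).toFinset
      have hp : p = ∑ z ∈ S, dl f F z (gz f F z p) := gz_ext f fun z' => by
        rw [map_sum, Finset.sum_eq_single z']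
        · rw [gz_dl, dif_pos rfl]
        · intro z _ hz
          rw [gz_dl, dif_neg hz]
        · intro hz
          have h0 : gz f F z' p = 0 := by simpa [S] using hz
          rw [gz_dl, dif_pos rfl, h0]
      rw [finsum_eq_sum_of_support_subset (s := S)]
      · conv_lhs => rw [hp]
        rw [map_sum]
        exact Finset.sum_congr rfl fun z _ => ConcreteCategory.congr_hom (hm z) (gz f F z p)
      · intro z hz
        simp only [S, Set.Finite.coe_toFinset, Set.mem_ofPred_eq]
        exact fun h => hz (by show s.inj z (gz f F z p) = 0; rw [h, map_zero]))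

variable (η)

/-- The stalks at the points of the fibre. -/
abbrev fibreStalks : EtCoh.Ab X ⥤ (Discrete (Pts f η) ⥤ AddCommGrpCat.{u + 1}) :=
  (Discrete.functor fun z : Pts f η => EtCoh.stalk z.1).flip

/-- `(f_! F)_η` is the sum of the stalks at the points of the fibre, naturally in `F`. -/
def shrStalkIso : shrF f ⋙ EtCoh.stalk η ≅ fibreStalks f η ⋙ colim :=
  NatIso.ofComponents
    (fun F => (cofanIsColimit f F).coconePointUniqueUpToIso (coproductIsCoproduct _) ≪≫
      HasColimit.isoOfNatIso (Discrete.natIso (F := Discrete.functor fun z : Pts f η => (EtCoh.stalk z.1).obj F)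
        (G := (fibreStalks f η).obj F) fun _ => Iso.refl _))
    (fun {F G} a => by
      refine Cofan.IsColimit.hom_ext (cofanIsColimit f F) _ _ fun z => ?_
      have hG : ∀ {G : EtCoh.Ab X}, dlHom f G z ≫
          ((cofanIsColimit f G).coconePointUniqueUpToIso (coproductIsCoproduct _) ≪≫
            HasColimit.isoOfNatIso (Discrete.natIso (F := Discrete.functor fun z : Pts f η => (EtCoh.stalk z.1).obj G)
              (G := (fibreStalks f η).obj G) fun _ => Iso.refl _)).hom =
          colimit.ι ((fibreStalks f η).obj G) ⟨z⟩ := fun {G} => by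
        refine (Category.assoc _ _ _).symm.trans ((congrArg (· ≫ _)
          ((cofanIsColimit f G).comp_coconePointUniqueUpToIso_hom (coproductIsCoproduct _) ⟨z⟩)).trans ?_)
        exact (HasColimit.isoOfNatIso_ι_hom _ _).trans (Category.id_comp _)
      refine (Category.assoc _ _ _).symm.trans ((congrArg (· ≫ _) (dlHom_naturality f a z).symm).trans ?_)
      refine (Category.assoc _ _ _).trans ((congrArg (_ ≫ ·) hG).trans ?_)
      refine Eq.trans ?_ ((congrArg (· ≫ (fibreStalks f η ⋙ colim).map a) hG).symm.trans (Category.assoc _ _ _))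
      simp [fibreStalks, colim])

end Groth.Agent.EtExcision
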