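import Groth.Agent.SiteBase.EtExcision.TensorGerm
import Groth.Agent.SiteBase.EtExcision.ShriekStalk
import Groth.Agent.SiteBase.EtExcision.Lqf

/-!
# The projection formula for direct image with proper support
-/

set_option autoImplicit false

universe u

open CategoryTheory CategoryTheory.Limits AlgebraicGeometry Opposite TensorProduct

namespace Groth.Agent.EtExcision

set_option backward.isDefEq.respectTransparency.types false

variable {X Y : Scheme.{u}} (f : X ⟶ Y)

/-- The unit on sections. -/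
noncomputable abbrev upl (G : EtCoh.Ab Y) (V : Y.Etale) :
    EtCoh.sect G V →+ EtCoh.sect ((EtCoh.pull f).obj G) ((EtCoh.bc f).obj V) :=
  (((EtCoh.pullPushAdj f).unit.app G).hom.app (op V)).hom

lemma upl_res (G : EtCoh.Ab Y) {V V' : Y.Etale} (g : V' ⟶ V) (t : EtCoh.sect G V) :
    res ((EtCoh.pull f).obj G) ((EtCoh.bc f).map g) (upl f G V t) = upl f G V' (res G g t) :=
  (ConcreteCategory.congr_hom (((EtCoh.pullPushAdj f).unit.app G).hom.naturality g.op) t).symm

/-- The tensor sheaf. -/
noncomputable abbrev tT (A B : EtCoh.Ab X) : EtCoh.Ab X :=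
  (presheafToSheaf X.smallEtaleTopology AddCommGrpCat.{u + 1}).obj (EtTens.tensorObj A.obj B.obj)

/-- The product of two sections in the tensor sheaf. -/
noncomputable def tSect (A B : EtCoh.Ab X) (W : X.Etale) (a : EtCoh.sect A W) (b : EtCoh.sect B W) :
    EtCoh.sect (tT A B) W :=
  (toSheafify X.smallEtaleTopology (EtTens.tensorObj A.obj B.obj)).app (op W) (a ⊗ₜ[ℤ] b)

lemma tSect_res (A B : EtCoh.Ab X) {W W' : X.Etale} (g : W' ⟶ W) (a : EtCoh.sect A W) (b : EtCoh.sect B W) :
    res (tT A B) g (tSect A B W a b) = tSect A B W' (res A g a) (res B g b) :=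
  (ConcreteCategory.congr_hom
    ((toSheafify X.smallEtaleTopology (EtTens.tensorObj A.obj B.obj)).naturality g.op) (a ⊗ₜ[ℤ] b)).symm

lemma tSect_add_left (A B : EtCoh.Ab X) (W : X.Etale) (a a' : EtCoh.sect A W) (b : EtCoh.sect B W) :
    tSect A B W (a + a') b = tSect A B W a b + tSect A B W a' b :=
  (congrArg ((toSheafify X.smallEtaleTopology (EtTens.tensorObj A.obj B.obj)).app (op W))
    (TensorProduct.add_tmul a a' b)).trans (map_add _ _ _)

lemma tSect_add_right (A B : EtCoh.Ab X) (W : X.Etale) (a : EtCoh.sect A W) (b b' : EtCoh.sect B W) :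
    tSect A B W a (b + b') = tSect A B W a b + tSect A B W a b' :=
  (congrArg ((toSheafify X.smallEtaleTopology (EtTens.tensorObj A.obj B.obj)).app (op W))
    (TensorProduct.tmul_add a b b')).trans (map_add _ _ _)

lemma sectSupp_tSect (A B : EtCoh.Ab X) (W : X.Etale) (a : EtCoh.sect A W) (b : EtCoh.sect B W) :
    EtShriek.sectSupp (tT A B) W (tSect A B W a b) ⊆ EtShriek.sectSupp A W a := by
  intro x hx
  by_contra h
  obtain ⟨W', g, w, hw, h0⟩ := notMem_sectSupp.1 h
  refine notMem_sectSupp.2 ⟨W', g, w, hw, ?_⟩ hx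
  rw [tSect_res, h0]
  exact (congrArg ((toSheafify X.smallEtaleTopology (EtTens.tensorObj A.obj B.obj)).app (op W'))
    (TensorProduct.zero_tmul (A.obj.obj (op W')) (res B g b))).trans (map_zero _)

section Map

variable [LocallyOfFiniteType f] (F : EtCoh.Ab X) (G : EtCoh.Ab Y)

lemma projSect_mem (V : Y.Etale) (s : ((shrF f).obj F).obj.obj (op V)) (t : EtCoh.sect G V) :
    tSect F ((EtCoh.pull f).obj G) ((EtCoh.bc f).obj V) s.1 (upl f G V t) ∈
      EtShriek.shriekSubgroup f (tT F ((EtCoh.pull f).obj G)) V :=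
  AddSubgroup.subset_closure ((shriekPred_iff f _ V _).2
    (QCoh.IsProperOver.subset ((shriekPred_iff f F V s.1).1 (shriekPred_of_mem f F V s.1 s.2))
      (isClosed_sectSupp _) (sectSupp_tSect _ _ _ _ _)))

/-- The projection formula on sections, as a bilinear map. -/
noncomputable def projBil (V : Y.Etale) :
    ((shrF f).obj F).obj.obj (op V) →+
      (EtCoh.sect G V →+ ((shrF f).obj (tT F ((EtCoh.pull f).obj G))).obj.obj (op V)) :=
  AddMonoidHom.mk'
    (fun (s : ((shrF f).obj F).obj.obj (op V)) => AddMonoidHom.mk'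
      (fun (t : EtCoh.sect G V) => (⟨_, projSect_mem f F G V s t⟩ :
        EtShriek.shriekSubgroup f (tT F ((EtCoh.pull f).obj G)) V))
      fun (t t' : EtCoh.sect G V) => Subtype.ext (by
        show tSect _ _ _ s.1 (upl f G V (t + t')) = _
        rw [map_add]
        exact tSect_add_right _ _ _ _ _ _))
    fun (s s' : ((shrF f).obj F).obj.obj (op V)) => AddMonoidHom.ext fun t => Subtype.ext
      (tSect_add_left _ _ _ s.1 s'.1 (upl f G V t))

/-- The projection formula on presheaves. -/
noncomputable def projPre :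
    EtTens.tensorObj ((shrF f).obj F).obj G.obj ⟶ ((shrF f).obj (tT F ((EtCoh.pull f).obj G))).obj where
  app V := AddCommGrpCat.ofHom (TensorProduct.liftAddHom (projBil f F G V.unop) fun n s t => by
    rw [map_zsmul, map_zsmul]
    rfl)
  naturality {V W} g := EtTens.hom_ext_tmul fun s t => Subtype.ext (by
    show tSect _ _ _ (res F ((EtCoh.bc f).map g.unop) s.1) (upl f G W.unop (res G g.unop t)) = _
    rw [← upl_res, ← tSect_res]
    rfl)

/-- The projection formula map. -/
noncomputable def projMap :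
    (presheafToSheaf Y.smallEtaleTopology AddCommGrpCat.{u + 1}).obj
        (EtTens.tensorObj ((shrF f).obj F).obj G.obj) ⟶ (shrF f).obj (tT F ((EtCoh.pull f).obj G)) :=
  ((sheafificationAdjunction Y.smallEtaleTopology AddCommGrpCat.{u + 1}).homEquiv _ _).symm (projPre f F G)

lemma toSheafify_projMap :
    toSheafify Y.smallEtaleTopology (EtTens.tensorObj ((shrF f).obj F).obj G.obj) ≫ (projMap f F G).hom =
      projPre f F G :=
  ((sheafificationAdjunction Y.smallEtaleTopology AddCommGrpCat.{u + 1}).homEquiv_unit _ _ _).symm.trans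
    (Equiv.apply_symm_apply _ _)

end Map

section Stalk

variable {Ω : Type u} [Field Ω] [IsAlgClosed Ω] {η : Spec (CommRingCat.of Ω) ⟶ Y}

/-- Germs of a tensor sheaf. -/
noncomputable def tTGerm (ξ : Spec (CommRingCat.of Ω) ⟶ X) (A B : EtCoh.Ab X) :
    (EtCoh.stalk ξ).obj A ⊗[ℤ] (EtCoh.stalk ξ).obj B ≃+ (EtCoh.stalk ξ).obj (tT A B) :=
  (tGermEquiv ξ A.obj B.obj).trans
    (asIso ((Scheme.pointSmallEtale ξ).presheafFiber.map
      (toSheafify X.smallEtaleTopology (EtTens.tensorObj A.obj B.obj)))).addCommGroupIsoToAddEquiv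

lemma tTGerm_germ (ξ : Spec (CommRingCat.of Ω) ⟶ X) (A B : EtCoh.Ab X) (W : X.Etale)
    (w : (Scheme.pointSmallEtale ξ).fiber.obj W) (a : EtCoh.sect A W) (b : EtCoh.sect B W) :
    tTGerm ξ A B ((Scheme.pointSmallEtale ξ).toPresheafFiber W w A.obj a ⊗ₜ[ℤ]
        (Scheme.pointSmallEtale ξ).toPresheafFiber W w B.obj b) =
      (Scheme.pointSmallEtale ξ).toPresheafFiber W w (tT A B).obj (tSect A B W a b) :=
  (congrArg ((Scheme.pointSmallEtale ξ).presheafFiber.map
    (toSheafify X.smallEtaleTopology (EtTens.tensorObj A.obj B.obj))) (tPair_germ ξ A.obj B.obj w a b)).trans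
      ((Scheme.pointSmallEtale ξ).toPresheafFiber_naturality_apply
        (toSheafify X.smallEtaleTopology (EtTens.tensorObj A.obj B.obj)) W w (a ⊗ₜ[ℤ] b))

theorem isIso_unit_pushStalkAt {ξ : Spec (CommRingCat.of Ω) ⟶ X} (hξ : ξ ≫ f = η) (G : EtCoh.Ab Y) :
    IsIso ((EtCoh.stalk η).map ((EtCoh.pullPushAdj f).unit.app G) ≫
      (EtFound.pushStalkAt f hξ).app ((EtCoh.pull f).obj G)) := by
  subst hξ
  have h : (EtCoh.stalk (ξ ≫ f)).map ((EtCoh.pullPushAdj f).unit.app G) ≫
      (EtFound.pushStalkAt f rfl).app ((EtCoh.pull f).obj G) =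
      (EtFound.sheafFiberPullIso f ξ).inv.app G := by
    have e : (EtFound.pushStalkAt (A := AddCommGrpCat.{u + 1}) f (rfl : ξ ≫ f = ξ ≫ f)).app
        ((EtCoh.pull f).obj G) = EtFound.pushStalkMap f ξ ((EtCoh.pull f).obj G) := by
      simp only [EtFound.pushStalkAt, eqToHom_refl, Category.id_comp]
      rfl
    rw [e, EtFound.pushStalkMap]
    refine (Category.assoc _ _ _).symm.trans ((congrArg (· ≫ _)
      ((EtFound.sheafFiberPullIso f ξ).inv.naturality ((EtCoh.pullPushAdj f).unit.app G))).trans ?_)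
    refine (Category.assoc _ _ _).trans ((congrArg (_ ≫ ·) ?_).trans (Category.comp_id _))
    refine ((EtCoh.stalk ξ).map_comp _ _).symm.trans ?_
    exact (congrArg (EtCoh.stalk ξ).map ((EtCoh.pullPushAdj f).left_triangle_components G)).trans
      ((EtCoh.stalk ξ).map_id _)
  rw [h]
  infer_instance

/-- The stalk of an inverse image at a point of the fibre. -/
noncomputable def uplGerm (z : Pts f η) (G : EtCoh.Ab Y) :
    (EtCoh.stalk η).obj G ≃+ (EtCoh.stalk z.1).obj ((EtCoh.pull f).obj G) :=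
  (@asIso _ _ _ _ _ (isIso_unit_pushStalkAt f z.2 G)).addCommGroupIsoToAddEquiv

lemma uplGerm_germ (z : Pts f η) (G : EtCoh.Ab Y) (V : Y.Etale) (v : (Scheme.pointSmallEtale η).fiber.obj V)
    (t : EtCoh.sect G V) :
    uplGerm f z G ((Scheme.pointSmallEtale η).toPresheafFiber V v G.obj t) =
      (Scheme.pointSmallEtale z.1).toPresheafFiber ((EtCoh.bc f).obj V) (EtFound.liftPt f z.2 v)
        ((EtCoh.pull f).obj G).obj (upl f G V t) :=
  (congrArg ((EtFound.pushStalkAt f z.2).app ((EtCoh.pull f).obj G))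
    ((Scheme.pointSmallEtale η).toPresheafFiber_naturality_apply ((EtCoh.pullPushAdj f).unit.app G).hom V v t)).trans
      (EtFound.pushStalkAt_germ_apply f z.2 ((EtCoh.pull f).obj G) v (upl f G V t))

variable [IsSeparated f] [LocallyOfFiniteType f] [LocallyQuasiFinite f] (F : EtCoh.Ab X) (G : EtCoh.Ab Y)

/-- The projection formula on germs. -/
noncomputable def projK :
    (EtCoh.stalk η).obj ((shrF f).obj F) ⊗[ℤ] (EtCoh.stalk η).obj G →+
      (EtCoh.stalk η).obj ((shrF f).obj (tT F ((EtCoh.pull f).obj G))) :=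
  ((Scheme.pointSmallEtale η).presheafFiber.map (projPre f F G)).hom.comp
    (tGermEquiv η ((shrF f).obj F).obj G.obj).toAddMonoidHom

omit [IsSeparated f] [LocallyQuasiFinite f] in
lemma gz_projK (z : Pts f η) (p : (EtCoh.stalk η).obj ((shrF f).obj F)) (q : (EtCoh.stalk η).obj G) :
    gz f (tT F ((EtCoh.pull f).obj G)) z (projK f F G (p ⊗ₜ[ℤ] q)) =
      tTGerm z.1 F ((EtCoh.pull f).obj G) (gz f F z p ⊗ₜ[ℤ] uplGerm f z G q) := by
  obtain ⟨V, v, s, rfl⟩ := (Scheme.pointSmallEtale η).toPresheafFiber_jointly_surjective p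
  obtain ⟨V', v', t, rfl⟩ := (Scheme.pointSmallEtale η).toPresheafFiber_jointly_surjective q
  obtain ⟨W, g, h, w, rfl, rfl⟩ := exists_refine η v v'
  obtain ⟨p', hp⟩ : ∃ p' : ((shrF f).obj F).obj.obj (op W), p' = ((shrF f).obj F).obj.map g.op s := ⟨_, rfl⟩
  obtain ⟨q', hq⟩ : ∃ q' : EtCoh.sect G W, q' = G.obj.map h.op t := ⟨_, rfl⟩
  have es : (Scheme.pointSmallEtale η).toPresheafFiber V ((Scheme.pointSmallEtale η).fiber.map g w)
      ((shrF f).obj F).obj s = (Scheme.pointSmallEtale η).toPresheafFiber W w ((shrF f).obj F).obj p' :=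
    hp ▸ ((Scheme.pointSmallEtale η).toPresheafFiber_w_apply g w ((shrF f).obj F).obj s).symm
  have et : (Scheme.pointSmallEtale η).toPresheafFiber V' ((Scheme.pointSmallEtale η).fiber.map h w)
      G.obj t = (Scheme.pointSmallEtale η).toPresheafFiber W w G.obj q' :=
    hq ▸ ((Scheme.pointSmallEtale η).toPresheafFiber_w_apply h w G.obj t).symm
  refine (congrArg₂ (fun a b => gz f (tT F ((EtCoh.pull f).obj G)) z (projK f F G (a ⊗ₜ[ℤ] b))) es et).trans
    (Eq.trans ?_ (congrArg₂ (fun a b => tTGerm z.1 F ((EtCoh.pull f).obj G) (gz f F z a ⊗ₜ[ℤ] uplGerm f z G b)) es et).symm)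
  rw [gz_germ, uplGerm_germ, tTGerm_germ]
  refine (congrArg (gz f (tT F ((EtCoh.pull f).obj G)) z)
    ((congrArg ((Scheme.pointSmallEtale η).presheafFiber.map (projPre f F G))
      (tPair_germ η ((shrF f).obj F).obj G.obj w _ _)).trans
        ((Scheme.pointSmallEtale η).toPresheafFiber_naturality_apply (projPre f F G) W w _))).trans ?_
  exact gz_germ f z W w _

/-- Germs at one point of the fibre. -/
noncomputable def projE (z : Pts f η) :
    (EtCoh.stalk z.1).obj F ⊗[ℤ] (EtCoh.stalk η).obj G ≃+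
      (EtCoh.stalk z.1).obj (tT F ((EtCoh.pull f).obj G)) :=
  ((TensorProduct.congr (AddEquiv.refl ((EtCoh.stalk z.1).obj F)).toIntLinearEquiv
    (uplGerm f z G).toIntLinearEquiv).toAddEquiv).trans (tTGerm z.1 F ((EtCoh.pull f).obj G))

/-- Inclusion of the germs at one point of the fibre. -/
noncomputable def projD (z : Pts f η) :
    (EtCoh.stalk z.1).obj F ⊗[ℤ] (EtCoh.stalk η).obj G →+
      (EtCoh.stalk η).obj ((shrF f).obj F) ⊗[ℤ] (EtCoh.stalk η).obj G :=
  (TensorProduct.map (dlHom f F z).hom.toIntLinearMap LinearMap.id).toAddMonoidHom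

open Classical in
lemma gz_projK_projD (z z' : Pts f η) (c : (EtCoh.stalk z.1).obj F ⊗[ℤ] (EtCoh.stalk η).obj G) :
    gz f (tT F ((EtCoh.pull f).obj G)) z' (projK f F G (projD f F G z c)) =
      if h : z = z' then h ▸ projE f F G z c else 0 := by
  by_cases h : z = z'
  · subst h
    rw [dif_pos rfl]
    induction c using TensorProduct.induction_on with
    | zero => simp only [map_zero]
    | add a b ha hb => simp only [map_add, ha, hb]
    | tmul a q =>
      refine (gz_projK f F G z (dl f F z a) q).trans ?_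
      rw [gz_dl, dif_pos rfl]
      rfl
  · rw [dif_neg h]
    induction c using TensorProduct.induction_on with
    | zero => simp only [map_zero]
    | add a b ha hb => simp only [map_add, ha, hb, add_zero]
    | tmul a q =>
      refine (gz_projK f F G z' (dl f F z a) q).trans ?_
      rw [gz_dl, dif_neg h, TensorProduct.zero_tmul, map_zero]

lemma sum_dl (p : (EtCoh.stalk η).obj ((shrF f).obj F)) :
    ∑ z ∈ (gz_finite f F p).toFinset, dlHom f F z (gz f F z p) = p := by
  classical
  refine gz_ext f (F := F) fun z' => ?_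
  rw [map_sum, Finset.sum_eq_single z']
  · exact (gz_dl f F z' z' _).trans (dif_pos rfl)
  · intro z _ hz
    exact (gz_dl f F z z' _).trans (dif_neg hz)
  · intro hz
    have h0 : gz f F z' p = 0 := by simpa using hz
    rw [h0, map_zero]
    exact map_zero _

lemma exists_projD_decomp (t : (EtCoh.stalk η).obj ((shrF f).obj F) ⊗[ℤ] (EtCoh.stalk η).obj G) :
    ∃ (S : Finset (Pts f η)) (c : ∀ z : Pts f η, (EtCoh.stalk z.1).obj F ⊗[ℤ] (EtCoh.stalk η).obj G),
      (∀ z, z ∉ S → c z = 0) ∧ ∑ z ∈ S, projD f F G z (c z) = t := by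
  classical
  induction t using TensorProduct.induction_on with
  | zero => exact ⟨∅, fun _ => 0, fun _ _ => rfl, Finset.sum_empty⟩
  | add a b ha hb =>
    obtain ⟨S, c, hc, rfl⟩ := ha
    obtain ⟨T, d, hd, rfl⟩ := hb
    refine ⟨S ∪ T, fun z => c z + d z, fun z hz => ?_, ?_⟩
    · simp only [Finset.mem_union, not_or] at hz
      show c z + d z = 0
      rw [hc z hz.1, hd z hz.2, add_zero]
    · simp only [map_add, Finset.sum_add_distrib]
      congr 1
      · exact (Finset.sum_subset Finset.subset_union_left fun z _ hz => by rw [hc z hz, map_zero]).symm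
      · exact (Finset.sum_subset Finset.subset_union_right fun z _ hz => by rw [hd z hz, map_zero]).symm
  | tmul p q =>
    refine ⟨(gz_finite f F p).toFinset, fun z => gz f F z p ⊗ₜ[ℤ] q, fun z hz => ?_, ?_⟩
    · show gz f F z p ⊗ₜ[ℤ] q = 0
      have h0 : gz f F z p = 0 := by simpa using hz
      rw [h0, TensorProduct.zero_tmul]
    · conv_rhs => rw [← sum_dl f F p, TensorProduct.sum_tmul]
      rfl

theorem projK_bijective : Function.Bijective (projK f F G (η := η)) := by
  classical
  constructor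
  · refine (injective_iff_map_eq_zero _).2 fun t ht => ?_
    obtain ⟨S, c, hc, rfl⟩ := exists_projD_decomp f F G t
    refine Finset.sum_eq_zero fun z hz => ?_
    have h := congrArg (gz f (tT F ((EtCoh.pull f).obj G)) z) ht
    rw [map_sum, map_sum, map_zero, Finset.sum_eq_single z, gz_projK_projD, dif_pos rfl] at h
    · rw [(projE f F G z).map_eq_zero_iff.1 h, map_zero]
    · intro z' _ hz'
      rw [gz_projK_projD, dif_neg hz']
    · exact fun h' => absurd hz h'
  · intro r
    refine ⟨∑ z ∈ (gz_finite f _ r).toFinset, projD f F G z ((projE f F G z).symm (gz f _ z r)), ?_⟩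
    conv_rhs => rw [← sum_dl f (tT F ((EtCoh.pull f).obj G)) r]
    rw [map_sum]
    refine Finset.sum_congr rfl fun z _ => gz_ext f (F := tT F ((EtCoh.pull f).obj G)) fun z' => ?_
    refine (gz_projK_projD f F G z z' _).trans (Eq.trans ?_ (gz_dl f _ z z' _).symm)
    by_cases h : z = z'
    · subst h
      rw [dif_pos rfl, dif_pos rfl, AddEquiv.apply_symm_apply]
    · rw [dif_neg h, dif_neg h]

variable (η) in
theorem isIso_stalk_projMap : IsIso ((EtCoh.stalk η).map (projMap f F G)) := by
  let t := (Scheme.pointSmallEtale η).presheafFiber.map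
    (toSheafify Y.smallEtaleTopology (EtTens.tensorObj ((shrF f).obj F).obj G.obj))
  have e : t ≫ (EtCoh.stalk η).map (projMap f F G) =
      (Scheme.pointSmallEtale η).presheafFiber.map (projPre f F G) :=
    ((Scheme.pointSmallEtale η).presheafFiber.map_comp _ _).symm.trans
      (congrArg (Scheme.pointSmallEtale η).presheafFiber.map (toSheafify_projMap f F G))
  have h : IsIso ((Scheme.pointSmallEtale η).presheafFiber.map (projPre f F G)) := by
    rw [ConcreteCategory.isIso_iff_bijective]
    have hb : Function.Bijective ((Scheme.pointSmallEtale η).presheafFiber.map (projPre f F G) ∘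
        tGermEquiv η ((shrF f).obj F).obj G.obj) := projK_bijective f F G
    exact (Function.Bijective.of_comp_iff _ (AddEquiv.bijective _)).1 hb
  have : IsIso (t ≫ (EtCoh.stalk η).map (projMap f F G)) := by rw [e]; exact h
  exact IsIso.of_isIso_comp_left t _

theorem isIso_projMap : IsIso (projMap f F G) :=
  have : ∀ p : AlgPt Y, IsIso ((EtCoh.stalk p.pt).map (projMap f F G)) := fun p => isIso_stalk_projMap f p.pt F G
  (jointlyReflect_algPt Y).isIso _

/-- The projection formula. -/
theorem lowerShriek_projection :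
    Nonempty ((EtTens.tensorBi.obj ((EtShriek.lowerShriek f).obj F)).obj G ≅
      (EtShriek.lowerShriek f).obj ((EtTens.tensorBi.obj F).obj ((EtCoh.pull f).obj G))) :=
  have hI : IsIso (projMap f F G) := isIso_projMap f F G
  ⟨(EtTens.tensorBi.mapIso ((lowerShriekIso f).app F)).app G ≪≫ @asIso _ _ _ _ (projMap f F G) hI ≪≫
    ((lowerShriekIso f).app _).symm⟩

end Stalk

end Groth.Agent.EtExcision
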