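import Groth.Agent.QCoh.ProperOver2
import Groth.Agent.EtFound.Descent
import Mathlib.AlgebraicGeometry.Morphisms.Etale
import Mathlib.AlgebraicGeometry.Morphisms.UniversallyOpen
import Mathlib.AlgebraicGeometry.Morphisms.QuasiSeparated

/-!
# Properness of a closed subset over the base is étale local on the base
-/

set_option autoImplicit false

universe u

open CategoryTheory CategoryTheory.Limits AlgebraicGeometry

namespace Groth.Agent.EtExcision

variable {X V : Scheme.{u}}

theorem isProperOver_of_etale_local (p : X ⟶ V) [LocallyOfFiniteType p] {C : Set X} (hC : IsClosed C)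
    (h : ∀ v : V, ∃ (W : Scheme.{u}) (g : W ⟶ V), AlgebraicGeometry.Etale g ∧ v ∈ Set.range g ∧
      ClSub.IsProperOver (pullback.snd p g) (⇑(pullback.fst p g) ⁻¹' C)) :
    ClSub.IsProperOver p C := by
  let i := (Scheme.IdealSheafData.vanishingIdeal ⟨C, hC⟩).subschemeι
  refine ⟨hC, ?_⟩
  show IsProper (i ≫ p)
  have hred : ∀ v : V, ∃ O : V.Opens, v ∈ O ∧ IsProper ((i ≫ p) ∣_ O) := by
    intro v
    obtain ⟨W, g, hg, ⟨w, rfl⟩, hP⟩ := h v
    obtain ⟨_, ⟨(A : V.Opens), hA, rfl⟩, hwA, -⟩ :=
      V.isBasis_affineOpens.exists_subset_of_mem_open (Set.mem_univ (g w)) isOpen_univ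
    obtain ⟨_, ⟨(B : W.Opens), hB, rfl⟩, hwB, hBA⟩ :=
      W.isBasis_affineOpens.exists_subset_of_mem_open (show w ∈ ((g ⁻¹ᵁ A : W.Opens) : Set W) from hwA)
        (g ⁻¹ᵁ A).isOpen
    let g' := B.ι ≫ g
    have : AlgebraicGeometry.Etale g' := MorphismProperty.comp_mem _ _ _ inferInstance hg
    let O : V.Opens := ⟨Set.range g', g'.isOpenMap.isOpen_range⟩
    have hOA : O ≤ A := by
      rintro _ ⟨x, rfl⟩
      exact hBA x.2
    let r : B.toScheme ⟶ O.toScheme := IsOpenImmersion.lift O.ι g' (by simp [O])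
    have hr : r ≫ O.ι = g' := IsOpenImmersion.lift_fac _ _ _
    have hre : AlgebraicGeometry.Etale r :=
      MorphismProperty.of_postcomp (W := @AlgebraicGeometry.Etale) (W' := @AlgebraicGeometry.Etale) r O.ι
        inferInstance (by rw [hr]; infer_instance)
    have hrs : Surjective r := ⟨fun o => by
      obtain ⟨x, hx⟩ : (O.ι o : V) ∈ Set.range g' := o.2
      refine ⟨x, O.ι.isOpenEmbedding.injective ?_⟩
      rw [← Scheme.Hom.comp_apply, hr]
      exact hx⟩
    have hrq : QuasiCompact r := by
      have : IsAffine B.toScheme := hB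
      have : IsAffine A.toScheme := hA
      exact QuasiCompact.of_comp r (V.homOfLE hOA)
    refine ⟨O, ⟨⟨w, hwB⟩, rfl⟩, ?_⟩
    have := EtFound.fpqc_isProper.{u}
    refine MorphismProperty.of_isPullback_of_descendsAlong (P := @IsProper)
      (Q := @Surjective ⊓ @Flat ⊓ @QuasiCompact) (IsPullback.of_hasPullback r ((i ≫ p) ∣_ O))
      ⟨⟨hrs, inferInstance⟩, hrq⟩ ?_
    have hP' : ClSub.IsProperOver (pullback.snd p g') (⇑(pullback.fst p g') ⁻¹' C) := by
      let m := pullback.map p g' p g (𝟙 X) B.ι (𝟙 V) (by simp) (by simp [g'])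
      have sq : IsPullback m (pullback.snd p g') (pullback.snd p g) B.ι := by
        refine IsPullback.of_right ?_ (pullback.lift_snd _ _ _) (IsPullback.of_hasPullback p g)
        rw [pullback.lift_fst, Category.comp_id]
        exact IsPullback.of_hasPullback p g'
      have := QCoh.IsProperOver.baseChange sq hP
      rwa [← Set.preimage_comp, ← TopCat.coe_comp, ← Scheme.Hom.comp_base, pullback.lift_fst,
        Category.comp_id] at this
    let i' := pullback.snd i (pullback.fst p g')
    have hi' : IsProper (i' ≫ pullback.snd p g') := by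
      refine QCoh.isProper_comp_of_isProperOver i' hP' ?_
      rw [Scheme.Pullback.range_snd, QCoh.range_vanishing]
    have sq1 : IsPullback (i' ≫ pullback.snd p g') (pullback.fst i (pullback.fst p g')) g' (i ≫ p) :=
      (IsPullback.of_hasPullback i (pullback.fst p g')).flip.paste_horiz (IsPullback.of_hasPullback p g').flip
    have sq2 : IsPullback (pullback.fst r ((i ≫ p) ∣_ O)) (pullback.snd r ((i ≫ p) ∣_ O) ≫ ((i ≫ p) ⁻¹ᵁ O).ι)
        g' (i ≫ p) := by
      have := (IsPullback.of_hasPullback r ((i ≫ p) ∣_ O)).paste_vert (isPullback_morphismRestrict (i ≫ p) O)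
      rwa [hr] at this
    rw [← IsPullback.isoIsPullback_hom_fst _ _ sq2 sq1]
    exact MorphismProperty.comp_mem @IsProper _ _ inferInstance hi'
  choose O hO hOP using hred
  exact IsZariskiLocalAtTarget.of_iSup_eq_top (P := @IsProper) O
    (eq_top_iff.2 fun v _ => TopologicalSpace.Opens.mem_iSup.2 ⟨v, hO v⟩) hOP

end Groth.Agent.EtExcision
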