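import Groth.Agent.SiteBase.EtExcision.Supp
import Groth.Agent.SiteBase.EtExcision.Descend

/-!
# The presheaf of sections with proper support is a sheaf
-/

set_option autoImplicit false

universe u

open CategoryTheory CategoryTheory.Limits AlgebraicGeometry Opposite

namespace Groth.Agent.EtExcision

variable {X Y : Scheme.{u}} (f : X ⟶ Y) [LocallyOfFiniteType f] (F : EtCoh.Ab X)

instance lft_prV (V : Y.Etale) : LocallyOfFiniteType (EtShriek.prV f V) :=
  inferInstanceAs (LocallyOfFiniteType (pullback.fst V.hom f))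

/-- Sections with support proper over the base. -/
theorem shriekPred_iff (V : Y.Etale) (s : EtCoh.sect F ((EtCoh.bc f).obj V)) :
    EtShriek.ShriekPred f F V s ↔
      ClSub.IsProperOver (EtShriek.prV f V) (EtShriek.sectSupp F ((EtCoh.bc f).obj V) s) := by
  constructor
  · intro h
    obtain ⟨Z, hZ, hp⟩ := h V (𝟙 V)
    rw [CategoryTheory.Functor.map_id, op_id, CategoryTheory.Functor.map_id] at hZ
    exact QCoh.IsProperOver.subset hp (isClosed_sectSupp s) hZ
  · intro h V' φ
    exact ⟨_, sectSupp_res_subset ((EtCoh.bc f).map φ) s,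
      QCoh.IsProperOver.baseChange (EtCoh.isPullback_bc_map f φ) h⟩

/-- Being a section with proper support is closed under the group operations. -/
theorem shriekPred_of_mem (V : Y.Etale) (s : EtCoh.sect F ((EtCoh.bc f).obj V))
    (hs : s ∈ EtShriek.shriekSubgroup f F V) : EtShriek.ShriekPred f F V s := by
  induction hs using AddSubgroup.closure_induction with
  | mem x hx => exact hx
  | zero =>
    rw [shriekPred_iff, sectSupp_zero]
    exact QCoh.isProperOver_empty
  | add x y _ _ hx hy =>
    rw [shriekPred_iff] at hx hy ⊢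
    exact QCoh.IsProperOver.subset (QCoh.IsProperOver.union hx hy) (isClosed_sectSupp _) (sectSupp_add x y)
  | neg x _ hx =>
    rw [shriekPred_iff] at hx ⊢
    rwa [sectSupp_neg]

/-- Proper support is local on the base. -/
theorem shriekPred_of_locally (V : Y.Etale) (s : EtCoh.sect F ((EtCoh.bc f).obj V)) (S : Sieve V)
    (hS : S ∈ Y.smallEtaleTopology V)
    (h : ∀ ⦃W : Y.Etale⦄ (g : W ⟶ V), S g → EtShriek.ShriekPred f F W (res F ((EtCoh.bc f).map g) s)) :
    EtShriek.ShriekPred f F V s := by
  rw [shriekPred_iff]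
  refine isProperOver_of_etale_local _ (isClosed_sectSupp s) fun v => ?_
  obtain ⟨W, g, w, hg, hw⟩ := (EtFound.mem_topology_iff S).1 hS v
  have hP := (shriekPred_iff f F W _).1 (h g hg)
  rw [sectSupp_res] at hP
  have sq := (EtCoh.isPullback_bc_map f g).flip.flip
  refine ⟨W.left, g.left, EtFound.etale_left g, ⟨w, hw⟩, ?_⟩
  have sq2 : IsPullback (pullback.fst (EtShriek.prV f V) g.left) (pullback.snd (EtShriek.prV f V) g.left)
      (EtShriek.prV f V) g.left := IsPullback.of_hasPullback _ _
  have sq3 : IsPullback (sq2.isoIsPullback _ _ sq).hom (pullback.snd (EtShriek.prV f V) g.left)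
      (EtShriek.prV f W) (𝟙 W.left) := by
    refine IsPullback.of_horiz_isIso ⟨?_⟩
    rw [Category.comp_id]
    exact IsPullback.isoIsPullback_hom_snd _ _ sq2 sq
  have := QCoh.IsProperOver.baseChange sq3 hP
  rwa [← Set.preimage_comp, ← TopCat.coe_comp, ← Scheme.Hom.comp_base,
    IsPullback.isoIsPullback_hom_fst] at this

theorem isSheaf_lowerShriekPre : Presheaf.IsSheaf Y.smallEtaleTopology (EtShriek.lowerShriekPre f F) := by
  rw [Presheaf.isSheaf_iff_isSheaf_forget _ _ (CategoryTheory.forget AddCommGrpCat.{u + 1}),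
    isSheaf_iff_isSheaf_of_type]
  intro V S hS x hx
  have hc := (Presieve.compatible_iff_sieveCompatible x).1 hx
  let G := ((EtCoh.push f).obj F)
  have hG := (isSheaf_iff_isSheaf_of_type _ _).1
    ((Presheaf.isSheaf_iff_isSheaf_forget _ G.obj (CategoryTheory.forget AddCommGrpCat.{u + 1})).1 G.property)
  obtain ⟨s, hs, hu⟩ := hG S hS (fun W g hg => (x g hg).1)
    ((Presieve.compatible_iff_sieveCompatible _).2 fun W W' g k hg => congrArg Subtype.val (hc g k hg))
  have hmem : EtShriek.ShriekPred f F V s := shriekPred_of_locally f F V s S hS fun W g hg => by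
    have e : res F ((EtCoh.bc f).map g) s = (x g hg).1 := hs g hg
    rw [e]
    exact shriekPred_of_mem f F W _ (x g hg).2
  refine ⟨⟨s, AddSubgroup.subset_closure hmem⟩, fun W g hg => Subtype.ext (hs g hg), fun t ht => Subtype.ext ?_⟩
  exact hu t.1 fun W g hg => congrArg Subtype.val (ht g hg)

end Groth.Agent.EtExcision
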