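import Mathlib.Algebra.Category.Grp.Colimits
import Mathlib.Algebra.Category.Grp.Preadditive
import Mathlib.CategoryTheory.Preadditive.AdditiveFunctor
import Mathlib.CategoryTheory.Limits.Preserves.Shapes.Products
import Mathlib.Algebra.BigOperators.Finprod
import Mathlib.GroupTheory.QuotientGroup.Defs

/-!
# A criterion for preservation of coproducts by functors to abelian groups
-/

set_option autoImplicit false

universe w w' v u

open CategoryTheory CategoryTheory.Limits

namespace Groth.Agent.EtExcision

variable {C : Type u} [Category.{v} C] [Preadditive C] {ι : Type w} (F : ι → C) [HasCoproduct F]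

open Classical in
/-- The projection of a coproduct to one of its summands. -/
noncomputable def sigmaπ (i : ι) : ∐ F ⟶ F i :=
  Sigma.desc fun j => if h : j = i then eqToHom (congrArg F h) else 0

lemma ι_sigmaπ_self (i : ι) : Sigma.ι F i ≫ sigmaπ F i = 𝟙 (F i) := by simp [sigmaπ]

lemma ι_sigmaπ_ne {i j : ι} (h : j ≠ i) : Sigma.ι F j ≫ sigmaπ F i = 0 := by simp [sigmaπ, h]

/-- The projection of a coproduct to a finite partial sum. -/
noncomputable def sigmaPart (S : Finset ι) : ∐ F ⟶ ∐ F := ∑ i ∈ S, sigmaπ F i ≫ Sigma.ι F i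

lemma ι_sigmaPart_mem {S : Finset ι} {i : ι} (h : i ∈ S) : Sigma.ι F i ≫ sigmaPart F S = Sigma.ι F i := by
  rw [sigmaPart, Preadditive.comp_sum, Finset.sum_eq_single i]
  · rw [← Category.assoc, ι_sigmaπ_self, Category.id_comp]
  · intro j _ hj
    rw [← Category.assoc, ι_sigmaπ_ne F (Ne.symm hj), zero_comp]
  · exact fun h' => absurd h h'

lemma ι_sigmaPart_notMem {S : Finset ι} {i : ι} (h : i ∉ S) : Sigma.ι F i ≫ sigmaPart F S = 0 := by
  rw [sigmaPart, Preadditive.comp_sum, Finset.sum_eq_zero]
  intro j hj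
  rw [← Category.assoc, ι_sigmaπ_ne F (fun e : i = j => h (e ▸ hj)), zero_comp]

lemma sigmaPart_comp_of_subset {S S' : Finset ι} (h : S ⊆ S') :
    sigmaPart F S ≫ sigmaPart F S' = sigmaPart F S := by
  refine Sigma.hom_ext _ _ fun i => ?_
  by_cases hi : i ∈ S
  · rw [← Category.assoc, ι_sigmaPart_mem F hi, ι_sigmaPart_mem F (h hi)]
  · rw [← Category.assoc, ι_sigmaPart_notMem F hi, zero_comp]

lemma sigmaPart_comp_of_supset {S S' : Finset ι} (h : S ⊆ S') :
    sigmaPart F S' ≫ sigmaPart F S = sigmaPart F S := by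
  refine Sigma.hom_ext _ _ fun i => ?_
  by_cases hi : i ∈ S
  · rw [← Category.assoc, ι_sigmaPart_mem F (h hi)]
  · by_cases hi' : i ∈ S'
    · rw [← Category.assoc, ι_sigmaPart_mem F hi']
    · rw [← Category.assoc, ι_sigmaPart_notMem F hi', ι_sigmaPart_notMem F hi, zero_comp]

lemma sub_sigmaPart_comp {S S' : Finset ι} (h : S ⊆ S') :
    (𝟙 _ - sigmaPart F S) ≫ (𝟙 _ - sigmaPart F S') = 𝟙 (∐ F) - sigmaPart F S' := by
  rw [Preadditive.sub_comp, Category.id_comp, Preadditive.comp_sub, Category.comp_id,
    sigmaPart_comp_of_subset F h, sub_self, sub_zero]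

variable (G : C ⥤ AddCommGrpCat.{w'}) [G.Additive]

theorem map_sigmaPart_apply (S : Finset ι) (p : G.obj (∐ F)) :
    G.map (sigmaPart F S) p = ∑ i ∈ S, G.map (Sigma.ι F i) (G.map (sigmaπ F i) p) := by
  classical
  rw [sigmaPart, G.map_sum]
  induction S using Finset.induction_on with
  | empty => rw [Finset.sum_empty, Finset.sum_empty]; rfl
  | insert i S hi ih =>
    rw [Finset.sum_insert hi, Finset.sum_insert hi, ← ih, G.map_comp]
    rfl

/-- A functor to abelian groups preserves a coproduct if every element of the value at the coproduct comes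
from a finite partial sum. -/
theorem preservesColimit_of_finite_support
    (h : ∀ p : G.obj (∐ F), ∃ S : Finset ι, G.map (sigmaPart F S) p = p) :
    PreservesColimit (Discrete.functor F) G := by
  have hfin : ∀ p : G.obj (∐ F), {i | G.map (sigmaπ F i) p ≠ 0}.Finite := fun p => by
    obtain ⟨S, hS⟩ := h p
    refine S.finite_toSet.subset fun i hi => ?_
    by_contra hiS
    have e : sigmaPart F S ≫ sigmaπ F i = 0 := by
      rw [sigmaPart, Preadditive.sum_comp, Finset.sum_eq_zero]
      intro j hj
      rw [Category.assoc, ι_sigmaπ_ne F (fun e : j = i => hiS (e ▸ hj)), comp_zero]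
    refine hi ?_
    rw [← hS, ← ConcreteCategory.comp_apply, ← G.map_comp, e, G.map_zero]
    rfl
  refine preservesColimit_of_preserves_colimit_cocone (coproductIsCoproduct F)
    ((isColimitMapCoconeCofanMkEquiv G F (Sigma.ι F)).symm ?_)
  have hι : ∀ (i j : ι) (a : G.obj (F i)), G.map (sigmaπ F j) (G.map (Sigma.ι F i) a) =
      G.map (Sigma.ι F i ≫ sigmaπ F j) a := fun i j a => by rw [G.map_comp]; rfl
  refine Cofan.IsColimit.mk _
    (fun s => AddCommGrpCat.ofHom (AddMonoidHom.mk'
      (fun p : G.obj (∐ F) => ((∑ᶠ i : ι, s.inj i (G.map (sigmaπ F i) p)) : s.pt))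
      fun (p q : G.obj (∐ F)) => by
      refine Eq.trans (finsum_congr fun i => (congrArg (s.inj i).hom (map_add (G.map (sigmaπ F i)).hom p q)).trans
        (map_add (s.inj i).hom _ _)) ?_
      refine finsum_add_distrib ?_ ?_
      · exact (hfin p).subset fun i hi h0 => hi (by show s.inj i (G.map (sigmaπ F i) p) = 0; rw [h0, map_zero])
      · exact (hfin q).subset fun i hi h0 => hi (by show s.inj i (G.map (sigmaπ F i) q) = 0; rw [h0, map_zero])))
    (fun s i => ConcreteCategory.hom_ext _ _ fun a => by
      show ∑ᶠ j : ι, s.inj j (G.map (sigmaπ F j) (G.map (Sigma.ι F i) a)) = s.inj i a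
      rw [finsum_eq_single _ i fun j hj => by
        rw [hι, ι_sigmaπ_ne F (Ne.symm hj), G.map_zero]; exact map_zero _, hι, ι_sigmaπ_self, G.map_id]
      rfl)
    (fun s m hm => ConcreteCategory.hom_ext _ _ fun p => by
      obtain ⟨S, hS⟩ := h p
      show m p = ∑ᶠ i : ι, s.inj i (G.map (sigmaπ F i) p)
      rw [finsum_eq_sum_of_support_subset (s := S)]
      · conv_lhs => rw [← hS, map_sigmaPart_apply]
        rw [map_sum]
        exact Finset.sum_congr rfl fun i _ => ConcreteCategory.congr_hom (hm i) (G.map (sigmaπ F i) p)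
      · intro i hi
        by_contra hiS
        refine hi ?_
        show s.inj i (G.map (sigmaπ F i) p) = 0
        have e : sigmaPart F S ≫ sigmaπ F i = 0 := by
          rw [sigmaPart, Preadditive.sum_comp, Finset.sum_eq_zero]
          intro j hj
          rw [Category.assoc, ι_sigmaπ_ne F (fun e : j = i => hiS (e ▸ hj)), comp_zero]
        rw [← hS, ← ConcreteCategory.comp_apply (G.map (sigmaPart F S)), ← G.map_comp, e, G.map_zero]
        exact map_zero _)

/-- A functor preserving a coproduct satisfies the finite support condition. -/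
theorem finite_support_of_preservesColimit [PreservesColimit (Discrete.functor F) G] (p : G.obj (∐ F)) :
    ∃ S : Finset ι, G.map (sigmaPart F S) p = p := by
  classical
  let M : AddSubgroup (G.obj (∐ F)) :=
    { carrier := {p | ∃ S : Finset ι, G.map (sigmaPart F S) p = p}
      zero_mem' := ⟨∅, map_zero _⟩
      add_mem' := by
        rintro p q ⟨S, hS⟩ ⟨T, hT⟩
        refine ⟨S ∪ T, ?_⟩
        rw [map_add]
        congr 1
        · conv_lhs => rw [← hS]
          rw [← ConcreteCategory.comp_apply, ← G.map_comp, sigmaPart_comp_of_subset F Finset.subset_union_left, hS]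
        · conv_lhs => rw [← hT]
          rw [← ConcreteCategory.comp_apply, ← G.map_comp, sigmaPart_comp_of_subset F Finset.subset_union_right, hT]
      neg_mem' := by
        rintro p ⟨S, hS⟩
        exact ⟨S, by rw [map_neg, hS]⟩ }
  let q : G.obj (∐ F) ⟶ AddCommGrpCat.of (G.obj (∐ F) ⧸ M) := AddCommGrpCat.ofHom (QuotientAddGroup.mk' M)
  have hq : q = 0 := Cofan.IsColimit.hom_ext
    (isColimitCofanMkObjOfIsColimit G F (Sigma.ι F) (coproductIsCoproduct F)) _ _ fun i =>
      ConcreteCategory.hom_ext _ _ fun a => by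
        refine (QuotientAddGroup.eq_zero_iff (G.map (Sigma.ι F i) a)).2 ⟨{i}, ?_⟩
        rw [← ConcreteCategory.comp_apply, ← G.map_comp, ι_sigmaPart_mem F (Finset.mem_singleton_self i)]
  exact (QuotientAddGroup.eq_zero_iff p).1 (ConcreteCategory.congr_hom hq p)

end Groth.Agent.EtExcision
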