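import Groth.Agent.SiteBase.EtExcision.Lqf
import Groth.Agent.SiteBase.EtExcision.CoprodCrit

/-!
# Direct image with proper support commutes with coproducts
-/

set_option autoImplicit false

universe u

open CategoryTheory CategoryTheory.Limits AlgebraicGeometry Opposite

namespace Groth.Agent.EtExcision

set_option backward.isDefEq.respectTransparency.types false

variable {X Y : Scheme.{u}} (f : X ⟶ Y) [LocallyOfFiniteType f]

theorem mono_map_sub_apply {A B : EtCoh.Ab X} (a b : A ⟶ B) (U : X.Etale) (s : EtCoh.sect A U) :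
    (a - b).hom.app (op U) s = a.hom.app (op U) s - b.hom.app (op U) s := rfl

instance additive_shrF : (shrF f).Additive where
  map_add {_ _ _ _} := Sheaf.hom_ext (NatTrans.ext (funext fun _ => ConcreteCategory.hom_ext _ _ fun _ => Subtype.ext rfl))

instance additive_stalk {Ω : Type u} [Field Ω] [IsSepClosed Ω] (ξ : Spec (CommRingCat.of Ω) ⟶ X) :
    (EtCoh.stalk ξ).Additive := Functor.additive_of_preserves_binary_products _

variable {ι : Type u} (F : ι → EtCoh.Ab X)

/-- Near every point a section of a coproduct comes from a finite partial sum. -/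
theorem exists_notMem_sectSupp (U : X.Etale) (s : EtCoh.sect (∐ F) U) (x : U.left) :
    ∃ S : Finset ι, x ∉ EtShriek.sectSupp (∐ F) U ((𝟙 (∐ F) - sigmaPart F S).hom.app (op U) s) := by
  let K := AlgebraicClosure (U.left.residueField x)
  let l : Spec (CommRingCat.of K) ⟶ U.left :=
    Spec.map (CommRingCat.ofHom (algebraMap (U.left.residueField x) K)) ≫ U.left.fromSpecResidueField x
  let u : (Scheme.pointSmallEtale (l ≫ U.hom)).fiber.obj U := CategoryTheory.Over.homMk l rfl
  obtain ⟨S, hS⟩ := finite_support_of_preservesColimit F (EtCoh.stalk (l ≫ U.hom))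
    ((Scheme.pointSmallEtale (l ≫ U.hom)).toPresheafFiber U u (∐ F).obj s)
  refine ⟨S, ?_⟩
  have hx : l.base (default : Spec (CommRingCat.of K)) = x := by
    rw [Scheme.Hom.comp_apply]
    exact Scheme.fromSpecResidueField_apply _ _
  have e : (Scheme.pointSmallEtale (l ≫ U.hom)).toPresheafFiber U u (∐ F).obj
      ((sigmaPart F S).hom.app (op U) s) =
      (Scheme.pointSmallEtale (l ≫ U.hom)).toPresheafFiber U u (∐ F).obj s :=
    ((Scheme.pointSmallEtale (l ≫ U.hom)).toPresheafFiber_naturality_apply (sigmaPart F S).hom U u s).symm.trans hS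
  have h := (germ_eq_zero_iff U u ((𝟙 (∐ F) - sigmaPart F S).hom.app (op U) s)).1 (by
    rw [mono_map_sub_apply]
    refine (map_sub ((Scheme.pointSmallEtale (l ≫ U.hom)).toPresheafFiber U u (∐ F).obj).hom _ _).trans ?_
    exact sub_eq_zero.2 e.symm)
  exact fun hx' => h (hx.symm ▸ hx' : l.base (default : Spec (CommRingCat.of K)) ∈ _)

/-- A section with quasi-compact support comes from a finite partial sum. -/
theorem exists_sigmaPart_eq (U : X.Etale) (s : EtCoh.sect (∐ F) U)
    (hC : IsCompact (EtShriek.sectSupp (∐ F) U s)) :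
    ∃ S : Finset ι, (sigmaPart F S).hom.app (op U) s = s := by
  classical
  let a : Finset ι → EtCoh.sect (∐ F) U := fun S => (𝟙 (∐ F) - sigmaPart F S).hom.app (op U) s
  have mono : ∀ {S S' : Finset ι}, S ⊆ S' →
      EtShriek.sectSupp (∐ F) U (a S') ⊆ EtShriek.sectSupp (∐ F) U (a S) := fun {S S'} h => by
    have e : a S' = (𝟙 (∐ F) - sigmaPart F S').hom.app (op U) (a S) := by
      show _ = ((𝟙 (∐ F) - sigmaPart F S) ≫ (𝟙 (∐ F) - sigmaPart F S')).hom.app (op U) s
      rw [sub_sigmaPart_comp F h]
    rw [e]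
    exact EtShriek.sectSupp_map_subset _ _ _
  obtain ⟨T, hT⟩ := hC.elim_directed_cover (fun S => (EtShriek.sectSupp (∐ F) U (a S))ᶜ)
    (fun S => (isClosed_sectSupp (a S)).isOpen_compl)
    (fun x _ => Set.mem_iUnion.2 (exists_notMem_sectSupp F U s x))
    (fun S S' => ⟨S ∪ S', Set.compl_subset_compl.2 (mono Finset.subset_union_left),
      Set.compl_subset_compl.2 (mono Finset.subset_union_right)⟩)
  refine ⟨T, (sub_eq_zero.1 ?_).symm⟩
  rw [← show a T = s - (sigmaPart F T).hom.app (op U) s from mono_map_sub_apply _ _ _ _]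
  refine eq_zero_of_sectSupp_eq_empty _ (Set.eq_empty_iff_forall_notMem.2 fun x hx => ?_)
  exact hT (EtShriek.sectSupp_map_subset _ U s hx) hx

theorem finite_support_shrF {Ω : Type u} [Field Ω] [IsAlgClosed Ω] (η : Spec (CommRingCat.of Ω) ⟶ Y)
    (p : (shrF f ⋙ EtCoh.stalk η).obj (∐ F)) :
    ∃ S : Finset ι, (shrF f ⋙ EtCoh.stalk η).map (sigmaPart F S) p = p := by
  obtain ⟨V, v, t, rfl⟩ := (Scheme.pointSmallEtale η).toPresheafFiber_jointly_surjective p
  obtain ⟨_, ⟨(O : V.left.Opens), hO, rfl⟩, hvO, -⟩ := V.left.isBasis_affineOpens.exists_subset_of_mem_open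
    (Set.mem_univ ((v.left : Spec (CommRingCat.of Ω) ⟶ V.left).base (default : Spec (CommRingCat.of Ω)))) isOpen_univ
  obtain ⟨o, ho⟩ := exists_openι hvO
  obtain ⟨w, hw, -⟩ := EtFound.exists_lift_point (openι V O) v o ho
  let t' := ((shrF f).obj (∐ F)).obj.map (openι V O).op t
  have ht : (Scheme.pointSmallEtale η).toPresheafFiber V v ((shrF f).obj (∐ F)).obj t =
      (Scheme.pointSmallEtale η).toPresheafFiber (openE V O) w ((shrF f).obj (∐ F)).obj t' := by
    rw [← hw]
    exact ((Scheme.pointSmallEtale η).toPresheafFiber_w_apply (openι V O) w ((shrF f).obj (∐ F)).obj t).symm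
  obtain ⟨hC, hP⟩ := (shriekPred_iff f (∐ F) (openE V O) t'.1).1
    (shriekPred_of_mem f (∐ F) (openE V O) t'.1 t'.2)
  let i := (Scheme.IdealSheafData.vanishingIdeal ⟨_, hC⟩).subschemeι
  have : IsProper (i ≫ EtShriek.prV f (openE V O)) := hP
  have hcO : CompactSpace (openE V O).left :=
    isCompact_iff_compactSpace.1 (hO : IsAffineOpen O).isCompact
  have hcpt : CompactSpace (Scheme.IdealSheafData.vanishingIdeal ⟨_, hC⟩).subscheme :=
    QuasiCompact.compactSpace_of_compactSpace (i ≫ EtShriek.prV f (openE V O))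
  obtain ⟨S, hS⟩ := exists_sigmaPart_eq F _ t'.1 (by
    rw [← QCoh.range_vanishing hC]
    exact isCompact_range i.base.hom.continuous)
  refine ⟨S, ?_⟩
  refine (congrArg ((EtCoh.stalk η).map ((shrF f).map (sigmaPart F S))) ht).trans (Eq.trans ?_ ht.symm)
  refine ((Scheme.pointSmallEtale η).toPresheafFiber_naturality_apply ((shrF f).map (sigmaPart F S)).hom _ w t').trans ?_
  exact congrArg ((Scheme.pointSmallEtale η).toPresheafFiber (openE V O) w ((shrF f).obj (∐ F)).obj) (Subtype.ext hS)

theorem preservesCoproducts_lowerShriek (ι : Type u) :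
    PreservesColimitsOfShape (Discrete ι) (EtShriek.lowerShriek f) := by
  have h0 : ∀ F : ι → EtCoh.Ab X, PreservesColimit (Discrete.functor F) (shrF f) := fun F =>
      ⟨fun {c} hc => ⟨(jointlyReflect_algPt Y).jointlyReflectsColimit fun p => by
        have : PreservesColimit (Discrete.functor F) (shrF f ⋙ EtCoh.stalk p.pt) :=
          preservesColimit_of_finite_support F (shrF f ⋙ EtCoh.stalk p.pt) (finite_support_shrF f F p.pt)
        exact isColimitOfPreserves (shrF f ⋙ EtCoh.stalk p.pt) hc⟩⟩
  have h : PreservesColimitsOfShape (Discrete ι) (shrF f) := preservesColimitsOfShape_of_discrete _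
  exact preservesColimitsOfShape_of_natIso (lowerShriekIso f).symm

end Groth.Agent.EtExcision
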