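import Groth.Agent.SiteBase.EtExcision.CompSupp

/-!
# Composition of direct images with proper support
-/

set_option autoImplicit false

universe u

open CategoryTheory CategoryTheory.Limits AlgebraicGeometry Opposite

namespace Groth.Agent.EtExcision

set_option backward.isDefEq.respectTransparency.types false

variable {X Y Z : Scheme.{u}} (f : X ⟶ Y) (g : Y ⟶ Z)

/-- Iterated base change. -/
noncomputable def bcLeftIso (V : Z.Etale) :
    ((EtCoh.bc f).obj ((EtCoh.bc g).obj V)).left ≅ ((EtCoh.bc (f ≫ g)).obj V).left :=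
  pullbackLeftPullbackSndIso V.hom g f

lemma bcLeftIso_prV (V : Z.Etale) :
    (bcLeftIso f g V).hom ≫ EtShriek.prV (f ≫ g) V =
      EtShriek.prV f ((EtCoh.bc g).obj V) ≫ EtShriek.prV g V :=
  pullbackLeftPullbackSndIso_hom_fst _ _ _

/-- Iterated base change of étale sites. -/
noncomputable def bcCompObjIso (V : Z.Etale) :
    (EtCoh.bc f).obj ((EtCoh.bc g).obj V) ≅ (EtCoh.bc (f ≫ g)).obj V :=
  MorphismProperty.Over.isoMk (bcLeftIso f g V) (pullbackLeftPullbackSndIso_hom_snd V.hom g f)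

lemma bc_map_snd {A B : Scheme.{u}} (h : A ⟶ B) {V W : B.Etale} (a : V ⟶ W) :
    ((EtCoh.bc h).map a).left ≫ pullback.snd W.hom h = pullback.snd V.hom h :=
  MorphismProperty.Over.w ((EtCoh.bc h).map a)

lemma bc_map_fst {A B : Scheme.{u}} (h : A ⟶ B) {V W : B.Etale} (a : V ⟶ W) :
    ((EtCoh.bc h).map a).left ≫ EtShriek.prV h W = EtShriek.prV h V ≫ a.left :=
  (EtCoh.isPullback_bc_map h a).w

/-- Iterated base change of étale sites, naturally. -/
noncomputable def bcCompIso : EtCoh.bc g ⋙ EtCoh.bc f ≅ EtCoh.bc (f ≫ g) :=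
  NatIso.ofComponents (bcCompObjIso f g) fun {V W} a => by
    refine hom_ext (pullback.hom_ext ?_ ?_)
    · refine (Category.assoc _ _ _).trans ((congrArg (_ ≫ ·) (bcLeftIso_prV f g W)).trans ?_)
      refine (Category.assoc _ _ _).symm.trans ((congrArg (· ≫ _) (bc_map_fst f ((EtCoh.bc g).map a))).trans ?_)
      refine (Category.assoc _ _ _).trans ((congrArg (_ ≫ ·) (bc_map_fst g a)).trans ?_)
      refine Eq.symm ((Category.assoc _ _ _).trans ((congrArg (_ ≫ ·) (bc_map_fst (f ≫ g) a)).trans ?_))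
      refine (Category.assoc _ _ _).symm.trans ((congrArg (· ≫ _) (bcLeftIso_prV f g V)).trans ?_)
      exact Category.assoc _ _ _
    · exact (MorphismProperty.Over.w ((EtCoh.bc f).map ((EtCoh.bc g).map a) ≫ (bcCompObjIso f g W).hom)).trans
        (MorphismProperty.Over.w ((bcCompObjIso f g V).hom ≫ (EtCoh.bc (f ≫ g)).map a)).symm

lemma bcCompIso_hom_prV (V : Z.Etale) :
    (bcCompObjIso f g V).hom.left ≫ EtShriek.prV (f ≫ g) V =
      EtShriek.prV f ((EtCoh.bc g).obj V) ≫ EtShriek.prV g V :=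
  bcLeftIso_prV f g V

lemma bcCompIso_inv_prV (V : Z.Etale) :
    (bcCompObjIso f g V).inv.left ≫ (EtShriek.prV f ((EtCoh.bc g).obj V) ≫ EtShriek.prV g V) =
      EtShriek.prV (f ≫ g) V :=
  (congrArg ((bcLeftIso f g V).inv ≫ ·) (bcLeftIso_prV f g V).symm).trans
    ((bcLeftIso f g V).inv_hom_id_assoc _)

variable [IsSeparated f] [LocallyOfFiniteType f] [IsSeparated g] [LocallyOfFiniteType g]

instance isSeparated_prV (V : Z.Etale) : IsSeparated (EtShriek.prV g V) :=
  inferInstanceAs (IsSeparated (pullback.fst V.hom g))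

omit [IsSeparated f] [LocallyOfFiniteType f] [IsSeparated g] [LocallyOfFiniteType g] in
lemma res_inv_hom (F : EtCoh.Ab X) (V : Z.Etale) (s : EtCoh.sect F ((EtCoh.bc (f ≫ g)).obj V)) :
    res F (bcCompObjIso f g V).inv (res F (bcCompObjIso f g V).hom s) = s :=
  (res_res F _ _ s).trans ((congrArg (fun m => res F m s) (Iso.inv_hom_id _)).trans (res_id F s))

omit [IsSeparated f] [LocallyOfFiniteType f] [IsSeparated g] [LocallyOfFiniteType g] in
lemma res_hom_inv (F : EtCoh.Ab X) (V : Z.Etale)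
    (x : EtCoh.sect F ((EtCoh.bc f).obj ((EtCoh.bc g).obj V))) :
    res F (bcCompObjIso f g V).hom (res F (bcCompObjIso f g V).inv x) = x :=
  (res_res F _ _ x).trans ((congrArg (fun m => res F m x) (Iso.hom_inv_id _)).trans (res_id F x))

lemma shriekPred_comp_iff (F : EtCoh.Ab X) (V : Z.Etale) (s : EtCoh.sect F ((EtCoh.bc (f ≫ g)).obj V)) :
    EtShriek.ShriekPred (f ≫ g) F V s ↔
      ClSub.IsProperOver (EtShriek.prV f ((EtCoh.bc g).obj V) ≫ EtShriek.prV g V)
        (EtShriek.sectSupp F _ (res F (bcCompObjIso f g V).hom s)) := by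
  rw [shriekPred_iff, sectSupp_res]
  have h1 : IsIso (bcCompObjIso f g V).hom.left := inferInstanceAs (IsIso (bcLeftIso f g V).hom)
  have h2 : IsIso (bcCompObjIso f g V).inv.left := inferInstanceAs (IsIso (bcLeftIso f g V).inv)
  refine ⟨fun h => QCoh.IsProperOver.preimage (bcCompIso_hom_prV f g V) h, fun h => ?_⟩
  have := QCoh.IsProperOver.preimage (p := EtShriek.prV (f ≫ g) V) (bcCompIso_inv_prV f g V) h
  have e := ((congrArg (⇑(bcCompObjIso f g V).inv.left.base ⁻¹' ·)
    (sectSupp_res (bcCompObjIso f g V).hom s).symm).trans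
    (sectSupp_res (bcCompObjIso f g V).inv (res F (bcCompObjIso f g V).hom s)).symm).trans
      (congrArg (EtShriek.sectSupp F _) (res_inv_hom f g F V s))
  exact (congrArg (ClSub.IsProperOver (EtShriek.prV (f ≫ g) V)) e).mp this

lemma mem_of_shrF_shrF (F : EtCoh.Ab X) (V : Z.Etale)
    (t : ((shrF g).obj ((shrF f).obj F)).obj.obj (op V)) :
    res F (bcCompObjIso f g V).inv t.1.1 ∈ EtShriek.shriekSubgroup (f ≫ g) F V := by
  refine AddSubgroup.subset_closure ((shriekPred_comp_iff f g F V _).2 ?_)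
  rw [res_hom_inv]
  refine isProperOver_comp rfl (isProperOver_sectSupp_mem f F _ t.1) ?_
  rw [← sectSupp_shrF]
  exact isProperOver_sectSupp_mem g ((shrF f).obj F) V t

lemma shriekPred_inner (F : EtCoh.Ab X) (V : Z.Etale) (s : ((shrF (f ≫ g)).obj F).obj.obj (op V)) :
    EtShriek.ShriekPred f F ((EtCoh.bc g).obj V) (res F (bcCompObjIso f g V).hom s.1) :=
  (shriekPred_iff f F _ _).2 (isProperOver_of_comp rfl
    ((shriekPred_comp_iff f g F V _).1 (shriekPred_of_mem (f ≫ g) F V s.1 s.2)))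

/-- The inner section attached to a section with proper support. -/
noncomputable def toInner (F : EtCoh.Ab X) (V : Z.Etale) (s : ((shrF (f ≫ g)).obj F).obj.obj (op V)) :
    EtCoh.sect ((shrF f).obj F) ((EtCoh.bc g).obj V) :=
  ⟨res F (bcCompObjIso f g V).hom s.1, AddSubgroup.subset_closure (shriekPred_inner f g F V s)⟩

lemma shriekPred_outer (F : EtCoh.Ab X) (V : Z.Etale) (s : ((shrF (f ≫ g)).obj F).obj.obj (op V)) :
    EtShriek.ShriekPred g ((shrF f).obj F) V (toInner f g F V s) := by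
  rw [shriekPred_iff, sectSupp_shrF]
  exact isProperOver_image rfl ((shriekPred_comp_iff f g F V _).1 (shriekPred_of_mem (f ≫ g) F V s.1 s.2))

omit [IsSeparated f] [LocallyOfFiniteType f] [IsSeparated g] [LocallyOfFiniteType g] in
lemma res_add (F : EtCoh.Ab X) (V : Z.Etale)
    (x y : EtCoh.sect F ((EtCoh.bc f).obj ((EtCoh.bc g).obj V))) :
    res F (bcCompObjIso f g V).inv (x + y) =
      res F (bcCompObjIso f g V).inv x + res F (bcCompObjIso f g V).inv y :=
  map_add (F.obj.map (bcCompObjIso f g V).inv.op).hom x y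

/-- The comparison on sections. -/
noncomputable def compSectEquiv (F : EtCoh.Ab X) (V : Z.Etale) :
    ((shrF g).obj ((shrF f).obj F)).obj.obj (op V) ≃+ ((shrF (f ≫ g)).obj F).obj.obj (op V) where
  toFun t := ⟨res F (bcCompObjIso f g V).inv t.1.1, mem_of_shrF_shrF f g F V t⟩
  invFun s := ⟨toInner f g F V s, AddSubgroup.subset_closure (shriekPred_outer f g F V s)⟩
  left_inv t := Subtype.ext (Subtype.ext (res_hom_inv f g F V t.1.1))
  right_inv s := Subtype.ext (res_inv_hom f g F V s.1)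
  map_add' s t := Subtype.ext (res_add f g F V s.1.1 t.1.1)

lemma compSectEquiv_val (F : EtCoh.Ab X) (V : Z.Etale)
    (t : ((shrF g).obj ((shrF f).obj F)).obj.obj (op V)) :
    (compSectEquiv f g F V t).1 = res F (bcCompObjIso f g V).inv t.1.1 := rfl

/-- The comparison of presheaves. -/
noncomputable def compPreIso (F : EtCoh.Ab X) :
    ((shrF g).obj ((shrF f).obj F)).obj ≅ ((shrF (f ≫ g)).obj F).obj :=
  NatIso.ofComponents (fun V => (compSectEquiv f g F V.unop).toAddCommGrpIso)
    fun {V W} a => ConcreteCategory.hom_ext _ _ fun t => Subtype.ext <| by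
      refine (res_res F (bcCompObjIso f g W.unop).inv ((EtCoh.bc f).map ((EtCoh.bc g).map a.unop)) t.1.1).trans ?_
      refine Eq.trans ?_ (res_res F ((EtCoh.bc (f ≫ g)).map a.unop) (bcCompObjIso f g V.unop).inv t.1.1).symm
      exact congrArg (fun m => res F m t.1.1) ((bcCompIso f g).inv.naturality a.unop).symm

omit [IsSeparated f] [LocallyOfFiniteType f] [IsSeparated g] [LocallyOfFiniteType g] in
lemma res_app {F G : EtCoh.Ab X} (a : F ⟶ G) (V : Z.Etale)
    (x : EtCoh.sect F ((EtCoh.bc f).obj ((EtCoh.bc g).obj V))) :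
    res G (bcCompObjIso f g V).inv (a.hom.app (op ((EtCoh.bc f).obj ((EtCoh.bc g).obj V))) x) =
      a.hom.app (op ((EtCoh.bc (f ≫ g)).obj V)) (res F (bcCompObjIso f g V).inv x) :=
  (ConcreteCategory.congr_hom (a.hom.naturality (bcCompObjIso f g V).inv.op) x).symm

/-- Direct images with proper support compose. -/
noncomputable def shrCompIso : shrF f ⋙ shrF g ≅ shrF (f ≫ g) :=
  NatIso.ofComponents
    (fun F => (fullyFaithfulSheafToPresheaf Z.smallEtaleTopology AddCommGrpCat.{u + 1}).preimageIso (compPreIso f g F))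
    fun {F G} a => Sheaf.hom_ext (NatTrans.ext (funext fun V => ConcreteCategory.hom_ext _ _ fun t => Subtype.ext
      (res_app f g a V.unop t.1.1)))

/-- Direct images with proper support compose. -/
noncomputable def lowerShriekCompIso :
    EtShriek.lowerShriek (f ≫ g) ≅ EtShriek.lowerShriek f ⋙ EtShriek.lowerShriek g :=
  lowerShriekIso (f ≫ g) ≪≫ (shrCompIso f g).symm ≪≫
    (Functor.isoWhiskerRight (lowerShriekIso f) _ ≪≫ Functor.isoWhiskerLeft _ (lowerShriekIso g)).symm

end Groth.Agent.EtExcision
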