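import Groth.Agent.SiteBase.EtExcision.Tools

/-!
# Excision for sections with support in a closed subset
-/

set_option autoImplicit false

universe u

open CategoryTheory CategoryTheory.Limits AlgebraicGeometry Opposite

namespace Groth.Agent.EtExcision

variable {X : Scheme.{u}} {F : EtCoh.Ab X} {U U' W : X.Etale}

/-- A section pulled back away from its support is zero. -/
theorem res_eq_zero_of_avoid (a : W ⟶ U) (s : EtCoh.sect F U) {T : Set U.left}
    (hs : EtShriek.sectSupp F U s ⊆ T) (ha : ∀ w : W.left, a.left.base w ∉ T) : res F a s = 0 := by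
  refine eq_of_nbhds F fun w => ?_
  have hw : a.left.base w ∉ EtShriek.sectSupp F U s := fun h => ha w (hs h)
  simp only [EtShriek.sectSupp, Set.mem_setOf_eq, not_forall] at hw
  obtain ⟨V, g, ⟨v, hv⟩, h0⟩ := hw
  obtain ⟨P, p, q, z, hz, e⟩ := exists_pullback_nbhd a g w v hv.symm
  refine ⟨P, p, z, hz, ?_⟩
  rw [res_res, e, ← res_res, show res F g s = 0 from not_not.1 h0]
  exact (map_zero _).trans (map_zero (F.obj.map p.op).hom).symm

theorem sectSupp_res_subset (φ : U' ⟶ U) (s : EtCoh.sect F U) :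
    EtShriek.sectSupp F U' (res F φ s) ⊆ φ.left.base ⁻¹' EtShriek.sectSupp F U s := by
  intro x hx V g ⟨v, hv⟩ h0
  obtain ⟨P', p', q', z', hz', e'⟩ := exists_pullback_nbhd φ g x v hv.symm
  refine hx P' p' ⟨z', hz'⟩ ?_
  show res F p' (res F φ s) = 0
  rw [res_res, e', ← res_res, show res F g s = 0 from h0]
  exact map_zero _

variable {φ : U' ⟶ U} {Z : Set U.left}

/-- Pullbacks along two lifts of a map agree. -/
theorem res_eq_of_lifts (hbij : Set.BijOn φ.left.base (φ.left.base ⁻¹' Z) Z)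
    (hres : ∀ x ∈ φ.left.base ⁻¹' Z, Function.Bijective (φ.left.residueFieldMap x)) (hZ : IsClosed Z)
    (s' : EtCoh.sect F U') (hs' : EtShriek.sectSupp F U' s' ⊆ φ.left.base ⁻¹' Z)
    (a b : W ⟶ U') (h : a ≫ φ = b ≫ φ) : res F a s' = res F b s' := by
  have hab : ∀ w, φ.left.base (b.left.base w) = φ.left.base (a.left.base w) := fun w => by
    rw [← comp_left_apply, ← comp_left_apply, h]
  refine eq_of_nbhds F fun w => ?_
  by_cases hw : φ.left.base (a.left.base w) ∈ Z
  · obtain ⟨O, hwO, e⟩ := exists_open_eq φ a b h w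
      (hbij.2.1 hw (show φ.left.base (b.left.base w) ∈ Z by rw [hab w]; exact hw) (hab w).symm) (hres _ hw)
    obtain ⟨v, hv⟩ := exists_openι hwO
    exact ⟨_, openι W O, v, hv, by rw [res_res, res_res, e]⟩
  · let O : W.left.Opens := ⟨(fun w => φ.left.base (a.left.base w)) ⁻¹' Zᶜ,
      hZ.isOpen_compl.preimage (φ.left.base.hom.continuous.comp a.left.base.hom.continuous)⟩
    obtain ⟨v, hv⟩ := exists_openι (O := O) hw
    refine ⟨_, openι W O, v, hv, ?_⟩
    rw [res_res, res_res, res_eq_zero_of_avoid (openι W O ≫ a) s' hs' (fun x => openι_mem O x),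
      res_eq_zero_of_avoid (openι W O ≫ b) s' hs' (fun x hx => openι_mem O x
        (show φ.left.base (a.left.base _) ∈ Z by rw [← hab]; exact hx))]

theorem eq_of_res_eq (hbij : Set.BijOn φ.left.base (φ.left.base ⁻¹' Z) Z) (hZ : IsClosed Z)
    (s t : EtCoh.sect F U) (hs : EtShriek.sectSupp F U s ⊆ Z) (ht : EtShriek.sectSupp F U t ⊆ Z)
    (h : res F φ s = res F φ t) : s = t := by
  refine eq_of_nbhds F fun x => ?_
  by_cases hx : x ∈ Z
  · obtain ⟨y, -, hy⟩ := hbij.2.2 hx
    exact ⟨U', φ, y, hy, h⟩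
  · let O : U.left.Opens := ⟨Zᶜ, hZ.isOpen_compl⟩
    obtain ⟨v, hv⟩ := exists_openι (O := O) hx
    exact ⟨_, openι U O, v, hv, by
      rw [res_eq_zero_of_avoid _ s hs (fun w => openι_mem O w),
        res_eq_zero_of_avoid _ t ht (fun w => openι_mem O w)]⟩

theorem exists_extension (hbij : Set.BijOn φ.left.base (φ.left.base ⁻¹' Z) Z)
    (hres : ∀ x ∈ φ.left.base ⁻¹' Z, Function.Bijective (φ.left.residueFieldMap x)) (hZ : IsClosed Z)
    (s' : EtCoh.sect F U') (hs' : EtShriek.sectSupp F U' s' ⊆ φ.left.base ⁻¹' Z) :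
    ∃ s : EtCoh.sect F U, EtShriek.sectSupp F U s ⊆ Z ∧ res F φ s = s' := by
  classical
  let S : Sieve U :=
    { arrows := fun V g => (∃ a : V ⟶ U', a ≫ φ = g) ∨ ∀ v : V.left, g.left.base v ∉ Z
      downward_closed := fun {V W g} hg k => hg.imp
        (fun ⟨a, ha⟩ => ⟨k ≫ a, by rw [Category.assoc, ha]⟩) (fun hg w => hg (k.left.base w)) }
  let O : U.left.Opens := ⟨Zᶜ, hZ.isOpen_compl⟩
  have hS : S ∈ X.smallEtaleTopology U := (EtFound.mem_topology_iff S).2 fun x => by
    by_cases hx : x ∈ Z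
    · obtain ⟨y, -, hy⟩ := hbij.2.2 hx
      exact ⟨U', φ, y, Or.inl ⟨𝟙 U', Category.id_comp φ⟩, hy⟩
    · obtain ⟨v, hv⟩ := exists_openι (O := O) hx
      exact ⟨_, openι U O, v, Or.inr fun w => openι_mem O w, hv⟩
  let val : ∀ (V : X.Etale) (g : V ⟶ U), EtCoh.sect F V := fun V g =>
    if hg : ∃ a : V ⟶ U', a ≫ φ = g then res F hg.choose s' else 0
  have hval₁ : ∀ (V : X.Etale) (g : V ⟶ U) (a : V ⟶ U'), a ≫ φ = g → val V g = res F a s' := by
    intro V g a ha
    have hg : ∃ a : V ⟶ U', a ≫ φ = g := ⟨a, ha⟩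
    simp only [val, dif_pos hg]
    exact res_eq_of_lifts hbij hres hZ s' hs' _ a (hg.choose_spec.trans ha.symm)
  have hval₀ : ∀ (V : X.Etale) (g : V ⟶ U), (∀ v : V.left, g.left.base v ∉ Z) → val V g = 0 := by
    intro V g hg
    by_cases ha : ∃ a : V ⟶ U', a ≫ φ = g
    · obtain ⟨a, rfl⟩ := ha
      rw [hval₁ _ _ a rfl]
      exact res_eq_zero_of_avoid a s' hs' hg
    · simp only [val, dif_neg ha]
  have hs := (isSheaf_iff_isSheaf_of_type _ _).1
    ((Presheaf.isSheaf_iff_isSheaf_forget _ F.obj (CategoryTheory.forget AddCommGrpCat.{u + 1})).1 F.property)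
  obtain ⟨s, hs, -⟩ := hs S hS (fun V g _ => val V g)
    ((Presieve.compatible_iff_sieveCompatible _).2 fun V V' g k hg => by
      show val V' (k ≫ g) = res F k (val V g)
      rcases hg with ⟨a, ha⟩ | hg
      · rw [hval₁ V g a ha, hval₁ V' (k ≫ g) (k ≫ a) (by rw [Category.assoc, ha]), res_res]
      · rw [hval₀ V g hg, hval₀ V' (k ≫ g) fun w => hg (k.left.base w)]
        exact (map_zero (F.obj.map k.op).hom).symm)
  refine ⟨s, fun x hx => ?_, ?_⟩
  · by_contra hxZ
    obtain ⟨v, hv⟩ := exists_openι (O := O) hxZ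
    exact hx _ (openι U O) ⟨v, hv⟩ ((hs (openι U O) (Or.inr fun w => openι_mem O w)).trans
      (hval₀ _ _ fun w => openι_mem O w))
  · refine (hs φ (Or.inl ⟨𝟙 U', Category.id_comp φ⟩)).trans ?_
    exact (hval₁ _ _ (𝟙 U') (Category.id_comp φ)).trans (res_id F s')

/-- Excision for sections supported in a closed subset. -/
theorem bijOn_sections (φ : U' ⟶ U) (Z : Set U.left) (hZ : IsClosed Z)
    (hbij : Set.BijOn φ.left.base (φ.left.base ⁻¹' Z) Z)
    (hres : ∀ x ∈ φ.left.base ⁻¹' Z, Function.Bijective (φ.left.residueFieldMap x)) :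
    Set.BijOn (F.obj.map φ.op) {s | EtShriek.sectSupp F U s ⊆ Z}
      {s' | EtShriek.sectSupp F U' s' ⊆ φ.left.base ⁻¹' Z} := by
  refine ⟨fun s hs => (sectSupp_res_subset φ s).trans (Set.preimage_mono hs),
    fun s hs t ht h => eq_of_res_eq hbij hZ s t hs ht h, fun s' hs' => ?_⟩
  obtain ⟨s, h1, h2⟩ := exists_extension hbij hres hZ s' hs'
  exact ⟨s, h1, h2⟩

end Groth.Agent.EtExcision
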