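import Groth.Agent.SiteBase.EtExcision.Coprod
import Mathlib.CategoryTheory.Preadditive.LeftExact

/-!
# Left exactness of the direct image with proper support
-/

set_option autoImplicit false
set_option linter.style.haveILetI false

universe u

open CategoryTheory CategoryTheory.Limits AlgebraicGeometry Opposite

namespace Groth.Agent.EtExcision

set_option backward.isDefEq.respectTransparency.types false

variable {X Y : Scheme.{u}}

theorem injective_app_of_mono {K F : EtCoh.Ab X} (k : K ⟶ F) [Mono k] (U : X.Etale) :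
    Function.Injective (k.hom.app (op U)) := by
  haveI : Mono ((sheafToPresheaf X.smallEtaleTopology AddCommGrpCat.{u + 1}).map k) := inferInstance
  haveI : Mono (k.hom.app (op U)) :=
    inferInstanceAs (Mono (((sheafToPresheaf X.smallEtaleTopology AddCommGrpCat.{u + 1}).map k).app (op U)))
  exact (AddCommGrpCat.mono_iff_injective _).1 inferInstance

/-- a monomorphism of sheaves preserves supports -/
theorem sectSupp_map_of_mono {K F : EtCoh.Ab X} (k : K ⟶ F) [Mono k] (U : X.Etale) (t : EtCoh.sect K U) :
    EtShriek.sectSupp F U (k.hom.app (op U) t) = EtShriek.sectSupp K U t := by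
  refine (EtShriek.sectSupp_map_subset _ _ _).antisymm fun x hx => ?_
  by_contra h
  obtain ⟨W, g, w, hw, h0⟩ := notMem_sectSupp.1 h
  refine notMem_sectSupp.2 ⟨W, g, w, hw, injective_app_of_mono k W ?_⟩ hx
  exact (NatTrans.naturality_apply k.hom g.op t).trans (h0.trans (map_zero _).symm)

variable (f : X ⟶ Y) [LocallyOfFiniteType f]

theorem mem_shriekSubgroup_of_mono {K F : EtCoh.Ab X} (k : K ⟶ F) [Mono k] (V : Y.Etale)
    (t : EtCoh.sect K ((EtCoh.bc f).obj V))
    (h : k.hom.app (op ((EtCoh.bc f).obj V)) t ∈ EtShriek.shriekSubgroup f F V) :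
    t ∈ EtShriek.shriekSubgroup f K V := by
  refine AddSubgroup.subset_closure ((shriekPred_iff f K V t).2 ?_)
  rw [← sectSupp_map_of_mono k]
  exact (shriekPred_iff f F V _).1 (shriekPred_of_mem f F V _ h)

instance mono_shrι (F : EtCoh.Ab X) : Mono ((shrι f).app F) := by
  haveI : ∀ V : Y.Etaleᵒᵖ, Mono ((EtShriek.lowerShriekPreι f F).app V) := fun V =>
    (AddCommGrpCat.mono_iff_injective _).2 fun a b h => Subtype.ext h
  haveI : Mono ((sheafToPresheaf Y.smallEtaleTopology AddCommGrpCat.{u + 1}).map ((shrι f).app F)) :=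
    NatTrans.mono_of_mono_app (EtShriek.lowerShriekPreι f F)
  exact (sheafToPresheaf Y.smallEtaleTopology AddCommGrpCat.{u + 1}).mono_of_mono_map inferInstance

variable {K F : EtCoh.Ab X} (k : K ⟶ F) [Mono k] {T : EtCoh.Ab Y} (m : T ⟶ (shrF f).obj F)
  (n : T ⟶ (EtCoh.push f).obj K) (h : n ≫ (EtCoh.push f).map k = m ≫ (shrι f).app F)

include h in
theorem mem_factor (V : Y.Etale) (t : T.obj.obj (op V)) :
    n.hom.app (op V) t ∈ EtShriek.shriekSubgroup f K V := by
  refine mem_shriekSubgroup_of_mono f k V _ ?_
  have e : k.hom.app (op ((EtCoh.bc f).obj V)) (n.hom.app (op V) t) = (m.hom.app (op V) t).1 :=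
    ConcreteCategory.congr_hom (congrArg (fun q => q.hom.app (op V)) h) t
  rw [e]
  exact (m.hom.app (op V) t).2

/-- the factorisation through sections with proper support -/
noncomputable def factorShr : T ⟶ (shrF f).obj K :=
  ObjectProperty.homMk
    { app := fun V => AddCommGrpCat.ofHom
        { toFun := fun t : T.obj.obj V => ⟨n.hom.app V t, mem_factor f k m n h V.unop t⟩
          map_zero' := Subtype.ext (map_zero (n.hom.app V).hom)
          map_add' := fun s t => Subtype.ext (map_add (n.hom.app V).hom s t) }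
      naturality := fun _ _ a => ConcreteCategory.hom_ext _ _ fun t => Subtype.ext
        (NatTrans.naturality_apply n.hom a t) }

theorem factorShr_ι : factorShr f k m n h ≫ (shrι f).app K = n :=
  Sheaf.hom_ext (NatTrans.ext (funext fun _ => ConcreteCategory.hom_ext _ _ fun _ => rfl))

omit [Mono k] in
theorem preservesKernel_shrF {G : EtCoh.Ab X} (a : F ⟶ G) : PreservesLimit (parallelPair a 0) (shrF f) := by
  haveI : Mono (kernel.ι a) := inferInstance
  haveI : PreservesLimitsOfSize.{0, 0} (EtCoh.push f) := (EtCoh.pullPushAdj f).rightAdjoint_preservesLimits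
  refine preservesLimit_of_preserves_limit_cone (kernelIsKernel a)
    ((KernelFork.isLimitMapConeEquiv _ (shrF f)).symm ?_)
  haveI : Mono ((shrF f).map (kernel.ι a)) := by
    haveI : Mono ((shrF f).map (kernel.ι a) ≫ (shrι f).app F) := by
      rw [(shrι f).naturality]
      exact mono_comp ((shrι f).app (kernel a)) ((EtCoh.push f).map (kernel.ι a))
    exact mono_of_mono _ ((shrι f).app F)
  let hk := isLimitForkMapOfIsLimit' (EtCoh.push f) (kernel.condition a) (kernelIsKernel a)
  refine @KernelFork.IsLimit.ofι' _ _ _ _ _ _ _ ((shrF f).map (kernel.ι a))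
    (by rw [← Functor.map_comp, kernel.condition, Functor.map_zero]) (fun {T} m hm => ?_) (by assumption)
  have w : (m ≫ (shrι f).app F) ≫ (EtCoh.push f).map a = 0 := by
    rw [Category.assoc, ← (shrι f).naturality, ← Category.assoc, hm, zero_comp]
  let n := KernelFork.IsLimit.lift' hk (m ≫ (shrι f).app F) w
  refine ⟨factorShr f (kernel.ι a) m n.1 n.2, ?_⟩
  refine (cancel_mono ((shrι f).app F)).1 ?_
  rw [Category.assoc, (shrι f).naturality, ← Category.assoc, factorShr_ι]
  exact n.2

omit [Mono k] in
theorem preservesFiniteLimits_lowerShriek_all : PreservesFiniteLimits (EtShriek.lowerShriek f) := by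
  haveI : ∀ {A B : EtCoh.Ab X} (a : A ⟶ B), PreservesLimit (parallelPair a 0) (shrF f) := fun a =>
    preservesKernel_shrF f a
  haveI := (shrF f).preservesFiniteLimits_of_preservesKernels
  exact preservesFiniteLimits_of_natIso (lowerShriekIso f).symm

end Groth.Agent.EtExcision
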