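import Groth.Agent.SiteBase.EtExcision.Comp
import Groth.Agent.SiteBase.EtExcision.LeftExact
import Groth.Agent.ShriekBC11.Main

/-!
# Compatibility of base change and composition of direct images with proper support
-/

set_option autoImplicit false
set_option linter.style.haveILetI false

universe u

open CategoryTheory CategoryTheory.Limits AlgebraicGeometry Opposite

namespace Groth.Agent.EtExcision

set_option backward.isDefEq.respectTransparency.types false

variable {X Y : Scheme.{u}} (f : X ⟶ Y) [LocallyOfFiniteType f]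

/-- the map to the direct image is the inclusion of sections with proper support -/
theorem lowerShriekToPush_eq (F : EtCoh.Ab X) :
    EtShriek.lowerShriekToPush f F = (lowerShriekIso f).hom.app F ≫ (shrι f).app F := by
  refine ((sheafificationAdjunction Y.smallEtaleTopology AddCommGrpCat.{u + 1}).homEquiv
    (EtShriek.lowerShriekPre f F) ((EtCoh.push f).obj F)).injective ?_
  refine (Equiv.apply_symm_apply _ _).trans ?_
  rw [Adjunction.homEquiv_unit]
  have h : (sheafificationAdjunction Y.smallEtaleTopology AddCommGrpCat.{u + 1}).unit.app (EtShriek.lowerShriekPre f F) ≫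
      ((lowerShriekIso f).hom.app F).hom = 𝟙 _ := by
    refine Eq.trans ?_ (isoSheafify Y.smallEtaleTopology (isSheaf_lowerShriekPre f F)).hom_inv_id
    simp [lowerShriekIso, shrF]
  exact ((Category.id_comp _).symm.trans (congrArg (· ≫ EtShriek.lowerShriekPreι f F) h.symm)).trans
    (Category.assoc _ _ _)

variable {X' Y' : Scheme.{u}} {g : Y' ⟶ Y} {f' : X' ⟶ Y'} {g' : X' ⟶ X}

theorem exists_baseChange_compatible (H : IsPullback g' f' f g) [IsSeparated f] (F : EtCoh.Ab X) :
    ∃ φ : (EtCoh.pull g).obj ((EtShriek.lowerShriek f).obj F) ≅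
        (EtShriek.lowerShriek f').obj ((EtCoh.pull g').obj F),
      φ.hom ≫ EtShriek.lowerShriekToPush f' ((EtCoh.pull g').obj F) =
        (EtCoh.pull g).map (EtShriek.lowerShriekToPush f F) ≫ EtCoh.baseChange0 f g f' g' H.w F := by
  haveI : IsSeparated f' := MorphismProperty.of_isPullback H inferInstance
  haveI : LocallyOfFiniteType f' := MorphismProperty.of_isPullback H inferInstance
  let a := (EtCoh.pullPushAdj g').unit.app F
  haveI : IsIso (((EtCoh.pullPushAdj g).homEquiv ((shrF f).obj F)
      ((shrF f').obj ((EtCoh.pull g').obj F))).symm (ShriekBC11.ψ H a)) :=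
    ShriekBC11.isIso_of_pd (ShriekBC11.bcGood f H a (ShriekBC11.pd_unit g' F))
  refine ⟨(EtCoh.pull g).mapIso ((lowerShriekIso f).app F) ≪≫
    asIso (((EtCoh.pullPushAdj g).homEquiv _ _).symm (ShriekBC11.ψ H a)) ≪≫
      ((lowerShriekIso f').app _).symm, ?_⟩
  rw [lowerShriekToPush_eq, lowerShriekToPush_eq, Functor.map_comp, Category.assoc]
  simp only [Iso.trans_hom, Functor.mapIso_hom, Iso.app_hom, asIso_hom, Iso.symm_hom, Iso.app_inv,
    Category.assoc, Iso.inv_hom_id_app_assoc]
  refine congrArg ((EtCoh.pull g).map ((lowerShriekIso f).hom.app F) ≫ ·) ?_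
  rw [← Adjunction.homEquiv_naturality_right_symm, ShriekBC11.ψ_shrι,
    Adjunction.homEquiv_naturality_left_symm]
  refine congrArg ((EtCoh.pull g).map ((shrι f).app F) ≫ ·) ?_
  simp only [EtCoh.baseChange0, ShriekBC11.pushBC, ShriekBC11.swap, NatTrans.comp_app]
  rfl

end Groth.Agent.EtExcision

namespace Groth.Agent.EtExcision

set_option backward.isDefEq.respectTransparency.types false

variable {X Y Z : Scheme.{u}} (h : X ⟶ Y) (g : Y ⟶ Z)

theorem pullbackComp_inv_app (V : Z.Etale) :
    (MorphismProperty.Over.pullbackComp (P := EtCoh.etaleMP.{u}) (Q := ⊤) h g).inv.app V =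
      (bcCompObjIso h g V).hom := by
  rw [← cancel_epi ((MorphismProperty.Over.pullbackComp (P := EtCoh.etaleMP.{u}) (Q := ⊤) h g).hom.app V),
    Iso.hom_inv_id_app]
  symm
  refine hom_ext (pullback.hom_ext ?_ ?_)
  · refine (Category.assoc _ _ _).trans ((congrArg (_ ≫ ·) (bcLeftIso_prV h g V)).trans ?_)
    refine (MorphismProperty.Over.pullbackComp_left_fst_fst h g V).trans ?_
    exact (Category.id_comp _).symm
  · exact (MorphismProperty.Over.w (_ ≫ (bcCompObjIso h g V).hom)).trans (Category.id_comp _).symm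

variable [IsSeparated h] [LocallyOfFiniteType h] [IsSeparated g] [LocallyOfFiniteType g]

theorem shrCompIso_inv_ι (F : EtCoh.Ab X) :
    (shrCompIso h g).inv.app F ≫ (shrF g).map ((shrι h).app F) ≫ (shrι g).app ((EtCoh.push h).obj F) =
      (shrι (h ≫ g)).app F ≫ (EtCoh.pushComp g h).inv.app F := by
  refine Sheaf.hom_ext (NatTrans.ext (funext fun V => ConcreteCategory.hom_ext _ _ fun s => ?_))
  show res F (bcCompObjIso h g V.unop).hom s.1 = ((EtCoh.pushComp g h).inv.app F).hom.app V s.1
  rw [← pullbackComp_inv_app]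
  simp [EtCoh.pushComp, Functor.sheafPushforwardContinuousComp', Functor.sheafPushforwardContinuousIso]
  rfl

theorem existsUnique_comp_compatible :
    ∃! φ : EtShriek.lowerShriek (h ≫ g) ≅ EtShriek.lowerShriek h ⋙ EtShriek.lowerShriek g,
      ∀ F : EtCoh.Ab X,
        φ.hom.app F ≫ (EtShriek.lowerShriek g).map (EtShriek.lowerShriekToPush h F) ≫
            EtShriek.lowerShriekToPush g ((EtCoh.push h).obj F) =
          EtShriek.lowerShriekToPush (h ≫ g) F ≫ (EtCoh.pushComp g h).inv.app F := by
  have key : ∀ F : EtCoh.Ab X, (lowerShriekCompIso h g).hom.app F ≫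
      (EtShriek.lowerShriek g).map (EtShriek.lowerShriekToPush h F) ≫
        EtShriek.lowerShriekToPush g ((EtCoh.push h).obj F) =
      EtShriek.lowerShriekToPush (h ≫ g) F ≫ (EtCoh.pushComp g h).inv.app F := fun F => by
    rw [lowerShriekToPush_eq, lowerShriekToPush_eq, lowerShriekToPush_eq, Category.assoc, ← shrCompIso_inv_ι,
      Functor.map_comp]
    simp only [lowerShriekCompIso, Iso.trans_hom, Iso.symm_hom, Iso.trans_inv, NatTrans.comp_app,
      Functor.isoWhiskerRight_inv, Functor.isoWhiskerLeft_inv, Functor.whiskerRight_app,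
      Functor.whiskerLeft_app, Category.assoc]
    refine congrArg ((lowerShriekIso (h ≫ g)).hom.app F ≫ ·) (congrArg ((shrCompIso h g).inv.app F ≫ ·) ?_)
    rw [← Functor.map_comp_assoc, Iso.inv_hom_id_app, CategoryTheory.Functor.map_id, Category.id_comp,
      (lowerShriekIso g).hom.naturality_assoc,
      Iso.inv_hom_id_app_assoc]
  refine ⟨lowerShriekCompIso h g, key, fun φ hφ => Iso.ext (NatTrans.ext (funext fun F => ?_))⟩
  haveI := preservesFiniteLimits_lowerShriek_all g
  haveI : Mono (EtShriek.lowerShriekToPush h F) := by rw [lowerShriekToPush_eq]; infer_instance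
  haveI : Mono (EtShriek.lowerShriekToPush g ((EtCoh.push h).obj F)) := by
    rw [lowerShriekToPush_eq]; infer_instance
  haveI : Mono ((EtShriek.lowerShriek g).map (EtShriek.lowerShriekToPush h F) ≫
      EtShriek.lowerShriekToPush g ((EtCoh.push h).obj F)) := mono_comp _ _
  exact (cancel_mono ((EtShriek.lowerShriek g).map (EtShriek.lowerShriekToPush h F) ≫
    EtShriek.lowerShriekToPush g ((EtCoh.push h).obj F))).1 ((hφ F).trans (key F).symm)

end Groth.Agent.EtExcision
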