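import Mathlib.CategoryTheory.Comma.Basic
import Mathlib.CategoryTheory.Adjunction.Basic
import Mathlib.CategoryTheory.Limits.Shapes.Pullback.IsPullback.Kernels
import Mathlib.CategoryTheory.Limits.Shapes.Pullback.IsPullback.Basic
import Mathlib.CategoryTheory.Limits.Preserves.Shapes.Pullbacks
import Mathlib.CategoryTheory.Limits.Shapes.ZeroMorphisms

/-!
# Gluing of a category from two reflective parts

If two reflective localizations `L₁`, `L₂` of `C` preserve fibre products, jointly reflect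
isomorphisms, and `L₂` kills the image of `R₁`, then `C` is the category of triples.
-/

set_option autoImplicit false

universe v₁ v₂ v₃ u₁ u₂ u₃

open CategoryTheory CategoryTheory.Limits

namespace Groth.Agent.EtExcision

variable {C : Type u₁} [Category.{v₁} C] {A : Type u₂} [Category.{v₂} A] {B : Type u₃} [Category.{v₃} B]
  {L₁ : C ⥤ A} {R₁ : A ⥤ C} (a₁ : L₁ ⊣ R₁) {L₂ : C ⥤ B} {R₂ : B ⥤ C} (a₂ : L₂ ⊣ R₂)

/-- The functor to triples. -/
@[simps]
def tripleFunctor : C ⥤ Comma (𝟭 A) (R₂ ⋙ L₁) where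
  obj F := { left := L₁.obj F, right := L₂.obj F, hom := L₁.map (a₂.unit.app F) }
  map {F G} m :=
    { left := L₁.map m
      right := L₂.map m
      w := by
        dsimp
        rw [← L₁.map_comp, ← L₁.map_comp]
        exact congrArg L₁.map (a₂.unit.naturality m) }

variable [HasPullbacks C] [∀ X, IsIso (a₁.counit.app X)] [∀ X, IsIso (a₂.counit.app X)]
  [PreservesLimitsOfShape WalkingCospan L₁] [PreservesLimitsOfShape WalkingCospan L₂]
  (hz : ∀ X, IsZero (L₂.obj (R₁.obj X)))

omit [HasPullbacks C] [∀ X, IsIso (a₂.counit.app X)] [PreservesLimitsOfShape WalkingCospan L₁]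
  [PreservesLimitsOfShape WalkingCospan L₂] in
lemma isIso_map_unit (F : C) : IsIso (L₁.map (a₁.unit.app F)) :=
  @IsIso.of_isIso_fac_right _ _ _ _ _ _ _ _ inferInstance (IsIso.id _) (a₁.left_triangle_components F)

include hz in
theorem isIso_map_snd {X : A} {Y : C} (p : X ⟶ L₁.obj Y) :
    IsIso (L₂.map (pullback.snd (R₁.map p) (a₁.unit.app Y))) := by
  have h : IsPullback (L₂.map (pullback.fst (R₁.map p) (a₁.unit.app Y)))
      (L₂.map (pullback.snd (R₁.map p) (a₁.unit.app Y))) (L₂.map (R₁.map p)) (L₂.map (a₁.unit.app Y)) :=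
    (IsPullback.of_hasPullback (R₁.map p) (a₁.unit.app Y)).map L₂
  have : IsIso (L₂.map (R₁.map p)) := (hz _).isIso (hz _) _
  exact h.flip.isIso_fst_of_isIso

theorem isIso_map_fst {X : A} {Y : C} (p : X ⟶ L₁.obj Y) :
    IsIso (L₁.map (pullback.fst (R₁.map p) (a₁.unit.app Y))) := by
  have h : IsPullback (L₁.map (pullback.fst (R₁.map p) (a₁.unit.app Y)))
      (L₁.map (pullback.snd (R₁.map p) (a₁.unit.app Y))) (L₁.map (R₁.map p)) (L₁.map (a₁.unit.app Y)) :=
    (IsPullback.of_hasPullback (R₁.map p) (a₁.unit.app Y)).map L₁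
  have := isIso_map_unit a₁ Y
  exact h.isIso_fst_of_isIso

variable (hr : ∀ {F G : C} (m : F ⟶ G), IsIso (L₁.map m) → IsIso (L₂.map m) → IsIso m)

include hz hr in
theorem isPullback_units (F : C) :
    IsPullback (a₁.unit.app F) (a₂.unit.app F) (R₁.map (L₁.map (a₂.unit.app F)))
      (a₁.unit.app (R₂.obj (L₂.obj F))) := by
  let c : F ⟶ pullback (R₁.map (L₁.map (a₂.unit.app F))) (a₁.unit.app (R₂.obj (L₂.obj F))) :=
    pullback.lift (a₁.unit.app F) (a₂.unit.app F) (a₁.unit.naturality (a₂.unit.app F)).symm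
  have h1 : IsIso (L₁.map c) := by
    have := isIso_map_fst a₁ (L₁.map (a₂.unit.app F))
    have e : L₁.map c ≫ L₁.map (pullback.fst _ _) = L₁.map (a₁.unit.app F) := by
      rw [← L₁.map_comp]
      exact congrArg L₁.map (pullback.lift_fst _ _ _)
    exact @IsIso.of_isIso_fac_right _ _ _ _ _ _ _ _ this (isIso_map_unit a₁ F) e
  have h2 : IsIso (L₂.map c) := by
    have := isIso_map_snd a₁ hz (L₁.map (a₂.unit.app F))
    have e : L₂.map c ≫ L₂.map (pullback.snd _ _) = L₂.map (a₂.unit.app F) := by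
      rw [← L₂.map_comp]
      exact congrArg L₂.map (pullback.lift_snd _ _ _)
    have hu : IsIso (L₂.map (a₂.unit.app F)) :=
      @IsIso.of_isIso_fac_right _ _ _ _ _ _ _ _ inferInstance (IsIso.id _) (a₂.left_triangle_components F)
    exact @IsIso.of_isIso_fac_right _ _ _ _ _ _ _ _ this hu e
  have := hr c h1 h2
  exact IsPullback.of_iso (IsPullback.of_hasPullback _ _) (asIso c).symm (Iso.refl _) (Iso.refl _) (Iso.refl _)
    (by rw [Iso.symm_hom, asIso_inv, IsIso.eq_inv_comp, Iso.refl_hom, Category.comp_id]; exact pullback.lift_fst _ _ _)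
    (by rw [Iso.symm_hom, asIso_inv, IsIso.eq_inv_comp, Iso.refl_hom, Category.comp_id]; exact pullback.lift_snd _ _ _) (by simp) (by simp)

include a₁ hz hr in
theorem faithful_tripleFunctor : (tripleFunctor (L₁ := L₁) a₂).Faithful where
  map_injective {F G} m m' h := by
    refine (isPullback_units a₁ a₂ hz hr G).hom_ext ?_ ?_
    · refine (a₁.unit.naturality m).trans (Eq.trans ?_ (a₁.unit.naturality m').symm)
      exact congrArg (fun x : L₁.obj F ⟶ L₁.obj G => a₁.unit.app F ≫ R₁.map x) (congrArg CommaMorphism.left h)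
    · refine (a₂.unit.naturality m).trans (Eq.trans ?_ (a₂.unit.naturality m').symm)
      exact congrArg (fun x : L₂.obj F ⟶ L₂.obj G => a₂.unit.app F ≫ R₂.map x) (congrArg CommaMorphism.right h)

include a₁ hz hr in
theorem full_tripleFunctor : (tripleFunctor (L₁ := L₁) a₂).Full where
  map_surjective {F G} t := by
    let a : L₁.obj F ⟶ L₁.obj G := t.left
    let b : L₂.obj F ⟶ L₂.obj G := t.right
    have w : a ≫ L₁.map (a₂.unit.app G) = L₁.map (a₂.unit.app F) ≫ L₁.map (R₂.map b) := t.w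
    have hc : (a₁.unit.app F ≫ R₁.map a) ≫ R₁.map (L₁.map (a₂.unit.app G)) =
        (a₂.unit.app F ≫ R₂.map b) ≫ a₁.unit.app (R₂.obj (L₂.obj G)) := by
      rw [Category.assoc, ← R₁.map_comp, w, R₁.map_comp]
      exact (a₁.unit_naturality_assoc _ _).trans
        ((congrArg (a₂.unit.app F ≫ ·) (a₁.unit_naturality _)).trans (Category.assoc _ _ _).symm)
    let hG := isPullback_units a₁ a₂ hz hr G
    refine ⟨hG.lift _ _ hc, CommaMorphism.ext ?_ ?_⟩
    · refine (a₁.homEquiv F (L₁.obj G)).injective ?_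
      rw [a₁.homEquiv_unit, a₁.homEquiv_unit]
      exact (a₁.unit_naturality _).trans (hG.lift_fst _ _ hc)
    · refine (a₂.homEquiv F (L₂.obj G)).injective ?_
      rw [a₂.homEquiv_unit, a₂.homEquiv_unit]
      exact (a₂.unit_naturality _).trans (hG.lift_snd _ _ hc)

include a₁ hz in
theorem essSurj_tripleFunctor : (tripleFunctor (L₁ := L₁) a₂).EssSurj where
  mem_essImage t := by
    let φ : t.left ⟶ L₁.obj (R₂.obj t.right) := t.hom
    let p₁ := pullback.fst (R₁.map φ) (a₁.unit.app (R₂.obj t.right))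
    let p₂ := pullback.snd (R₁.map φ) (a₁.unit.app (R₂.obj t.right))
    have h₁ : IsIso (L₁.map p₁) := isIso_map_fst a₁ φ
    have h₂ : IsIso (L₂.map p₂) := isIso_map_snd a₁ hz φ
    have h₁' : IsIso (L₁.map p₁ ≫ a₁.counit.app t.left) := inferInstance
    have h₂' : IsIso (L₂.map p₂ ≫ a₂.counit.app t.right) := inferInstance
    refine ⟨pullback (R₁.map φ) (a₁.unit.app (R₂.obj t.right)), ⟨Comma.isoMk
      (@asIso _ _ _ _ _ h₁') (@asIso _ _ _ _ _ h₂') ?_⟩⟩
    show (L₁.map p₁ ≫ a₁.counit.app t.left) ≫ φ =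
      L₁.map (a₂.unit.app _) ≫ L₁.map (R₂.map (L₂.map p₂ ≫ a₂.counit.app t.right))
    have hr2 : a₂.unit.app _ ≫ R₂.map (L₂.map p₂ ≫ a₂.counit.app t.right) = p₂ := by
      exact (a₂.homEquiv_unit _ _ _).symm.trans
        ((congrArg (a₂.homEquiv _ t.right) (a₂.homEquiv_counit _ _ _).symm).trans (Equiv.apply_symm_apply _ _))
    rw [← L₁.map_comp, hr2, Category.assoc]
    refine ((congrArg (L₁.map p₁ ≫ ·) (a₁.counit.naturality φ).symm).trans ?_)
    show L₁.map p₁ ≫ L₁.map (R₁.map φ) ≫ a₁.counit.app _ = L₁.map p₂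
    rw [← L₁.map_comp_assoc, pullback.condition, L₁.map_comp_assoc]
    exact (congrArg (L₁.map p₂ ≫ ·) (a₁.left_triangle_components _)).trans (Category.comp_id _)

include a₁ hz hr in
theorem isEquivalence_tripleFunctor : (tripleFunctor (L₁ := L₁) a₂).IsEquivalence where
  faithful := faithful_tripleFunctor a₁ a₂ hz hr
  full := full_tripleFunctor a₁ a₂ hz hr
  essSurj := essSurj_tripleFunctor a₁ a₂ hz

end Groth.Agent.EtExcision
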