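import Groth.Prelude.Def_W4c1etweilhu916Glue
import Groth.Agent.SiteBase.EtExcision.GlueCat
import Groth.Agent.EtFound.AbRecollement
import Groth.Agent.EtFound.PullStalk
import Mathlib.CategoryTheory.Limits.Preserves.Finite

/-!
# Recollement as an equivalence with a category of triples
-/

set_option autoImplicit false

universe u

open CategoryTheory CategoryTheory.Limits AlgebraicGeometry Opposite

namespace Groth.Agent.EtExcision

set_option backward.isDefEq.respectTransparency.types false

variable {X Z U : Scheme.{u}} (i : Z ⟶ X) [IsClosedImmersion i] (j : U ⟶ X) [IsOpenImmersion j]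

theorem isIso_of_pulls (hZU : Set.range j.base = (Set.range i.base)ᶜ) {F G : EtCoh.Ab X} (m : F ⟶ G)
    (hi : IsIso ((EtCoh.pull i).map m)) (hj : IsIso ((EtCoh.pull j).map m)) : IsIso m := by
  refine (EtFound.isIso_iff_stalks m).2 fun Ω _ _ ξ => ?_
  by_cases h : ξ.base (default : Spec (CommRingCat.of Ω)) ∈ Set.range i.base
  · refine EtFound.isIso_stalk_of_lift i m ξ h fun k _ _ z => ?_
    exact (NatIso.isIso_map_iff (EtFound.stalkPullIso i z) m).1
      (inferInstanceAs (IsIso ((EtCoh.stalk z).map ((EtCoh.pull i).map m))))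
  · refine EtFound.isIso_stalk_of_lift j m ξ (by rw [hZU]; exact h) fun k _ _ z => ?_
    exact (NatIso.isIso_map_iff (EtFound.stalkPullIso j z) m).1
      (inferInstanceAs (IsIso ((EtCoh.stalk z).map ((EtCoh.pull j).map m))))

theorem isZero_pull_push (hZU : Set.range j.base = (Set.range i.base)ᶜ) (A : EtCoh.Ab Z) :
    IsZero ((EtCoh.pull j).obj ((EtCoh.push i).obj A)) := by
  let P := (EtCoh.pull j).obj ((EtCoh.push i).obj A)
  have h : IsIso (0 : P ⟶ P) := (EtFound.isIso_iff_stalks _).2 fun Ω _ _ z => by
    have hz : IsZero ((EtCoh.stalk z).obj P) := by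
      refine IsZero.of_iso (EtFound.isZero_stalk_push_closed i A (z ≫ j) ?_)
        ((EtFound.stalkPullIso j z).app ((EtCoh.push i).obj A))
      intro hm
      have : (z ≫ j).base (default : Spec (CommRingCat.of Ω)) ∈ Set.range j.base :=
        ⟨_, (Scheme.Hom.comp_apply _ _ _).symm⟩
      rw [hZU] at this
      exact this hm
    exact hz.isIso hz _
  exact (IsZero.iff_id_eq_zero P).2 ((isIsoZeroEquiv P P).toFun h).1

theorem isEquivalence_recollTriple (hZU : Set.range j.base = (Set.range i.base)ᶜ) :
    (EtCore.recollTriple i j).IsEquivalence := by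
  have : ∀ A, IsIso ((EtCoh.pullPushAdj i).counit.app A) :=
    EtFound.counit_isIso (A := AddCommGrpCat.{u + 1}) i (EtFound.liftable_of_isClosedImmersion i)
  have : ∀ A, IsIso ((EtCoh.pullPushAdj j).counit.app A) :=
    EtFound.counit_isIso (A := AddCommGrpCat.{u + 1}) j (EtFound.liftable_of_isOpenImmersion j)
  have := EtFound.pull_preservesFiniteLimits i
  have := EtFound.pull_preservesFiniteLimits j
  have hE := isEquivalence_tripleFunctor (EtCoh.pullPushAdj i) (EtCoh.pullPushAdj j)
    (isZero_pull_push i j hZU) (fun {F G} m => isIso_of_pulls i j hZU m)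
  exact hE

end Groth.Agent.EtExcision
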