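import Groth.Prelude.Def_BigSite
import Groth.Agent.EtFound.IntegralSplit
import Groth.Agent.EtFound.FiniteStalk
import Mathlib.AlgebraicGeometry.ZariskisMainTheorem

/-!
# Condition (A) for separated quasi-finite morphisms
-/

set_option autoImplicit false

universe u

open CategoryTheory CategoryTheory.Limits AlgebraicGeometry

namespace Groth.Agent.EtExcision

set_option backward.isDefEq.respectTransparency.types false

variable {X Y : Scheme.{u}} (f : X ⟶ Y)

/-- Base change of an open part along a morphism of the base. -/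
noncomputable def openBC {V V' : Scheme.{u}} (v : V ⟶ Y) (W : (pullback f v).Opens) (g' : V' ⟶ V) :
    pullback (W.ι ≫ pullback.snd f v) g' ⟶ pullback f (g' ≫ v) :=
  pullback.lift (pullback.fst _ _ ≫ W.ι ≫ pullback.fst f v) (pullback.snd _ _) (by
    rw [Category.assoc, Category.assoc, pullback.condition]
    rw [← Category.assoc W.ι, pullback.condition_assoc])

lemma openBC_fst {V V' : Scheme.{u}} (v : V ⟶ Y) (W : (pullback f v).Opens) (g' : V' ⟶ V) :
    openBC f v W g' ≫ pullback.fst f (g' ≫ v) = pullback.fst _ _ ≫ W.ι ≫ pullback.fst f v :=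
  pullback.lift_fst _ _ _

lemma openBC_snd {V V' : Scheme.{u}} (v : V ⟶ Y) (W : (pullback f v).Opens) (g' : V' ⟶ V) :
    openBC f v W g' ≫ pullback.snd f (g' ≫ v) = pullback.snd _ _ :=
  pullback.lift_snd _ _ _

instance isOpenImmersion_openBC {V V' : Scheme.{u}} (v : V ⟶ Y) (W : (pullback f v).Opens) (g' : V' ⟶ V) :
    IsOpenImmersion (openBC f v W g') := by
  let p : pullback f (g' ≫ v) ⟶ pullback f v :=
    pullback.lift (pullback.fst _ _) (pullback.snd _ _ ≫ g') (by rw [pullback.condition, Category.assoc])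
  have h : IsPullback p (pullback.snd f (g' ≫ v)) (pullback.snd f v) g' := by
    refine IsPullback.of_right (h₁₂ := pullback.fst f v) (v₁₃ := f) (h₂₂ := v) ?_ (pullback.lift_snd _ _ _)
      (IsPullback.of_hasPullback f v)
    rw [pullback.lift_fst]
    exact IsPullback.of_hasPullback f (g' ≫ v)
  have hp : openBC f v W g' ≫ p = pullback.fst _ _ ≫ W.ι := by
    refine pullback.hom_ext ?_ ?_
    · rw [Category.assoc, pullback.lift_fst, openBC_fst, Category.assoc]
    · rw [Category.assoc, pullback.lift_snd, ← Category.assoc, openBC_snd, Category.assoc, pullback.condition]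
  refine MorphismProperty.of_isPullback (P := @IsOpenImmersion) (f' := pullback.fst _ _) (f := p) (g := W.ι)
    (IsPullback.of_bot (v₂₁ := pullback.snd f (g' ≫ v)) (v₂₂ := pullback.snd f v) (h₃₁ := g') ?_ hp.symm h)
    inferInstance
  rw [openBC_snd]
  exact IsPullback.of_hasPullback _ _

variable [IsSeparated f] [LocallyOfFiniteType f] [LocallyQuasiFinite f]

theorem exists_clopen_lift {U V : Scheme.{u}} (g : U ⟶ X) (v : V ⟶ Y) [Etale v] (W : (pullback f v).Opens)
    (h : (W : Scheme.{u}) ⟶ U) (hh : h ≫ g = W.ι ≫ pullback.fst f v) (w : (W : Scheme.{u})) :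
    ∃ (V' : Scheme.{u}) (v' : V' ⟶ Y) (_ : Etale v') (W' : (pullback f v').Opens)
      (_ : IsClosed (W' : Set ↥(pullback f v'))) (h' : (W' : Scheme.{u}) ⟶ U),
      h' ≫ g = W'.ι ≫ pullback.fst f v' ∧ h.base w ∈ Set.range h'.base := by
  let f₂ := W.ι ≫ pullback.snd f v
  obtain ⟨V', g', hg', -, O, O', t, -, hfin, ht⟩ :=
    exists_etale_isCompl_of_quasiFiniteAt f₂ (x := w) rfl (f₂.quasiFiniteAt _)
  let a := O.ι ≫ openBC f v W g'
  have : IsFinite (a ≫ pullback.snd f (g' ≫ v)) := by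
    rw [Category.assoc, openBC_snd]
    exact hfin
  have : IsFinite a := IsFinite.of_comp a (pullback.snd f (g' ≫ v))
  refine ⟨V', g' ≫ v, inferInstance, a.opensRange, a.isClosedMap.isClosed_range,
    a.isoOpensRange.inv ≫ O.ι ≫ pullback.fst f₂ g' ≫ h, ?_, ?_⟩
  · rw [← Scheme.Hom.isoOpensRange_inv_comp a]
    simp only [Category.assoc, a, openBC_fst, hh]
    rfl
  · refine ⟨a.isoOpensRange.hom.base t, ?_⟩
    rw [← Scheme.Hom.comp_apply, Iso.hom_inv_id_assoc, Scheme.Hom.comp_apply, Scheme.Hom.comp_apply]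
    exact congrArg h.base ht

theorem exists_open_lift {U : Scheme.{u}} (g : U ⟶ X) [Etale g] (u : U) :
    ∃ (V : Scheme.{u}) (v : V ⟶ Y) (_ : Etale v) (W : (pullback f v).Opens) (h : (W : Scheme.{u}) ⟶ U),
      h ≫ g = W.ι ≫ pullback.fst f v ∧ u ∈ Set.range h.base := by
  obtain ⟨V, v, hv, -, O, O', t, -, hfin, ht⟩ :=
    exists_etale_isCompl_of_quasiFiniteAt f (x := g.base u) rfl (f.quasiFiniteAt _)
  let e := O.ι ≫ pullback.fst f v
  let f₁ := O.ι ≫ pullback.snd f v
  have : IsFinite f₁ := hfin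
  have : IsIntegralHom f₁ := inferInstance
  obtain ⟨u₁, hu₁, hu₁'⟩ := Scheme.Pullback.exists_preimage_pullback (f := g) (g := e) u t
    (by rw [Scheme.Hom.comp_apply]; exact ht.symm)
  let Z : ULift.{u} Bool → Scheme.{u} := fun b => Bool.rec O.toScheme (pullback g e) b.down
  let k : ∀ b, Z b ⟶ O.toScheme := fun b => match b with
    | ⟨true⟩ => pullback.snd g e
    | ⟨false⟩ => 𝟙 _
  have hsnd : Etale (pullback.snd g e) := MorphismProperty.pullback_snd _ _ ‹Etale g›
  have hk : ∀ b, Etale (k b) := fun b => match b with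
    | ⟨true⟩ => hsnd
    | ⟨false⟩ => inferInstanceAs (Etale (𝟙 O.toScheme))
  have : Etale (Sigma.desc k) := @EtFound.etale_sigmaDesc _ _ Z k hk
  let ι : pullback g e ⟶ ∐ Z := Sigma.ι Z ⟨true⟩
  have : IsOpenImmersion ι := inferInstanceAs (IsOpenImmersion (Sigma.ι Z ⟨true⟩))
  have hι : ι ≫ Sigma.desc k = pullback.snd g e := Sigma.ι_desc k ⟨true⟩
  obtain ⟨V', v', hv', -, -, h₀, hh₀, p, hp⟩ := EtFound.exists_split f₁ (Sigma.desc k) (f₁.base t)
    (fun x _ => ⟨(Sigma.ι Z ⟨false⟩).base x, by rw [← Scheme.Hom.comp_apply, Sigma.ι_desc]; rfl⟩)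
    (ι.base u₁) (by rw [← Scheme.Hom.comp_apply ι, hι]; exact congrArg f₁.base hu₁')
  let P := h₀ ⁻¹ᵁ ι.opensRange
  let a := P.ι ≫ openBC f v O v'
  let m := IsOpenImmersion.lift ι (P.ι ≫ h₀) (by rintro _ ⟨x, rfl⟩; exact x.2)
  have hm : m ≫ pullback.fst g e ≫ g = a ≫ pullback.fst f (v' ≫ v) := by
    rw [pullback.condition, ← hι]
    simp only [m, a, Category.assoc, openBC_fst, IsOpenImmersion.lift_fac_assoc]
    rw [reassoc_of% hh₀]
  have hpP : p ∈ P := ⟨u₁, hp.symm⟩
  refine ⟨V', v' ≫ v, inferInstance, a.opensRange, a.isoOpensRange.inv ≫ m ≫ pullback.fst g e, ?_,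
    a.isoOpensRange.hom.base ⟨p, hpP⟩, ?_⟩
  · rw [Category.assoc, Category.assoc, hm, ← Category.assoc, Scheme.Hom.isoOpensRange_inv_comp]
  · rw [← Scheme.Hom.comp_apply, Iso.hom_inv_id_assoc, Scheme.Hom.comp_apply]
    have hme : m.base ⟨p, hpP⟩ = u₁ := by
      refine ι.isOpenEmbedding.injective ?_
      rw [← Scheme.Hom.comp_apply, IsOpenImmersion.lift_fac, Scheme.Hom.comp_apply]
      exact hp
    rw [hme]
    exact hu₁

theorem propA : BigSite.PropA f := by
  intro U g hg u
  obtain ⟨V, v, hv, W, h, hh, w, rfl⟩ := exists_open_lift f g u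
  exact exists_clopen_lift f g v W h hh w

end Groth.Agent.EtExcision
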