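import Groth.Agent.SiteBase.EtExcision.Coprod
import Groth.Agent.EtFound.QcqsObjects
import Mathlib.AlgebraicGeometry.Noetherian

/-!
# Sections with compact support and filtered colimits
-/

set_option autoImplicit false
set_option linter.style.haveILetI false

universe u

open CategoryTheory CategoryTheory.Limits AlgebraicGeometry Opposite

namespace Groth.Agent.EtExcision

set_option backward.isDefEq.respectTransparency.types false

variable {X : Scheme.{u}}

theorem bijOn_openι (U : X.Etale) (O : U.left.Opens) {Z : Set U.left} (h : Z ⊆ O) :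
    Set.BijOn (openι U O).left.base ((openι U O).left.base ⁻¹' Z) Z :=
  ⟨fun _ hx => hx, fun _ _ _ _ e => O.ι.isOpenEmbedding.injective e, fun x hx => ⟨⟨x, h hx⟩, hx, rfl⟩⟩

theorem bijective_residue_openι (U : X.Etale) (O : U.left.Opens) (x : (openE U O).left) :
    Function.Bijective ((openι U O).left.residueFieldMap x) := by
  haveI : IsOpenImmersion (openι U O).left := inferInstanceAs (IsOpenImmersion O.ι)
  exact ((ConcreteCategory.isIso_iff_bijective _).1 inferInstance)

/-- a section supported in an open is zero if it is zero on the open -/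
theorem eq_zero_of_res_openι {F : EtCoh.Ab X} (U : X.Etale) (O : U.left.Opens) (s : EtCoh.sect F U)
    (hs : EtShriek.sectSupp F U s ⊆ O) (h : res F (openι U O) s = 0) : s = 0 := by
  refine eq_of_res_eq (φ := openι U O) (bijOn_openι U O hs) (isClosed_sectSupp s) s 0 le_rfl
    (by rw [sectSupp_zero]; exact Set.empty_subset _) ?_
  exact h.trans (map_zero (F.obj.map (openι U O).op).hom).symm

theorem exists_qc_open {T : Scheme.{u}} {C : Set T} (hC : IsCompact C) :
    ∃ O : T.Opens, IsCompact (O : Set T) ∧ C ⊆ O := by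
  have hcov : ∀ c : C, ∃ A : T.Opens, IsAffineOpen A ∧ (c : T) ∈ A := fun c => by
    obtain ⟨A, hA, hc, -⟩ := exists_isAffineOpen_mem_and_subset (U := (⊤ : T.Opens)) (x := (c : T)) trivial
    exact ⟨A, hA, hc⟩
  choose A hA hcA using hcov
  obtain ⟨s, hs⟩ := hC.elim_finite_subcover (fun c => (A c : Set T)) (fun c => (A c).2)
    (fun c hc => Set.mem_iUnion.2 ⟨⟨c, hc⟩, hcA ⟨c, hc⟩⟩)
  exact ⟨⟨⋃ c ∈ s, (A c : Set T), isOpen_biUnion fun c _ => (A c).2⟩,
    s.finite_toSet.isCompact_biUnion fun c _ => (hA c).isCompact, hs⟩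

theorem isQcqs_openE (U : X.Etale) [IsLocallyNoetherian U.left] {O : U.left.Opens}
    (hO : IsCompact (O : Set U.left)) : EtFound.IsQcqsObj (openE U O) :=
  ⟨isCompact_iff_compactSpace.1 hO, inferInstanceAs (QuasiSeparatedSpace ↥O.toScheme)⟩

theorem isCompact_open_of_subset {T : Scheme.{u}} [IsLocallyNoetherian T] {O O' : T.Opens}
    (hO : IsCompact (O : Set T)) (h : (O' : Set T) ⊆ O) : IsCompact (O' : Set T) := by
  haveI : CompactSpace O.toScheme := isCompact_iff_compactSpace.1 hO
  haveI : IsNoetherian O.toScheme := {}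
  have h1 : IsCompact (Subtype.val ⁻¹' (O' : Set T) : Set (O : Set T)) :=
    TopologicalSpace.NoetherianSpace.isCompact (α := O.toScheme) _
  have h2 := h1.image continuous_subtype_val
  rwa [Subtype.image_preimage_coe, Set.inter_eq_right.2 h] at h2

variable {K : Type (u + 1)} [SmallCategory K] [IsFiltered K] {D : K ⥤ EtCoh.Ab X} {c : Cocone D} (hc : IsColimit c)
include hc

theorem exists_rep_sect (W : X.Etale) (hW : EtFound.IsQcqsObj W) (x : EtCoh.sect c.pt W) :
    ∃ (i : K) (y : EtCoh.sect (D.obj i) W), (c.ι.app i).hom.app (op W) y = x := by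
  haveI := EtFound.preservesColimitsOfShape_sections_qcqs_ab W hW K
  exact Concrete.isColimit_exists_rep _ (isColimitOfPreserves (sheafToPresheaf X.smallEtaleTopology AddCommGrpCat.{u + 1} ⋙
    (evaluation X.Etaleᵒᵖ AddCommGrpCat.{u + 1}).obj (op W)) hc) x

theorem exists_map_sect_eq_zero (W : X.Etale) (hW : EtFound.IsQcqsObj W) {i : K} (y : EtCoh.sect (D.obj i) W)
    (h : (c.ι.app i).hom.app (op W) y = 0) :
    ∃ (j : K) (a : i ⟶ j), (D.map a).hom.app (op W) y = 0 := by
  haveI := EtFound.preservesColimitsOfShape_sections_qcqs_ab W hW K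
  obtain ⟨j, a, b, e⟩ := Concrete.isColimit_exists_of_rep_eq _ (isColimitOfPreserves
    (sheafToPresheaf X.smallEtaleTopology AddCommGrpCat.{u + 1} ⋙
      (evaluation X.Etaleᵒᵖ AddCommGrpCat.{u + 1}).obj (op W)) hc) y (0 : EtCoh.sect (D.obj i) W)
      (h.trans (map_zero ((c.ι.app i).hom.app (op W)).hom).symm)
  exact ⟨j, a, e.trans (map_zero ((D.map b).hom.app (op W)).hom)⟩

/-- a compactly supported section which dies in the colimit dies at a finite stage -/
theorem exists_map_eq_zero_of_isCompact (U : X.Etale) [IsLocallyNoetherian U.left] {i : K}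
    (s : EtCoh.sect (D.obj i) U) (hs : IsCompact (EtShriek.sectSupp (D.obj i) U s))
    (h : (c.ι.app i).hom.app (op U) s = 0) :
    ∃ (j : K) (a : i ⟶ j), (D.map a).hom.app (op U) s = 0 := by
  obtain ⟨O, hO, hCO⟩ := exists_qc_open hs
  have h' : (c.ι.app i).hom.app (op (openE U O)) (res (D.obj i) (openι U O) s) = 0 :=
    (NatTrans.naturality_apply (c.ι.app i).hom (openι U O).op s).trans
      ((congrArg (c.pt.obj.map (openι U O).op) h).trans (map_zero _))
  obtain ⟨j, a, ha⟩ := exists_map_sect_eq_zero hc (openE U O) (isQcqs_openE U hO) _ h'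
  refine ⟨j, a, eq_zero_of_res_openι U O _ ((EtShriek.sectSupp_map_subset _ _ _).trans hCO) ?_⟩
  exact (NatTrans.naturality_apply (D.map a).hom (openι U O).op s).symm.trans ha

/-- a compactly supported section of the colimit comes from a finite stage, with the same support -/
theorem exists_rep_of_isCompact (U : X.Etale) [IsLocallyNoetherian U.left] (x : EtCoh.sect c.pt U)
    (hx : IsCompact (EtShriek.sectSupp c.pt U x)) :
    ∃ (i : K) (s : EtCoh.sect (D.obj i) U), (c.ι.app i).hom.app (op U) s = x ∧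
      EtShriek.sectSupp (D.obj i) U s ⊆ EtShriek.sectSupp c.pt U x := by
  let C := EtShriek.sectSupp c.pt U x
  have hC : IsClosed C := isClosed_sectSupp x
  obtain ⟨O, hO, hCO⟩ := exists_qc_open hx
  obtain ⟨i, t, ht⟩ := exists_rep_sect hc (openE U O) (isQcqs_openE U hO) (res c.pt (openι U O) x)
  let O' : U.left.Opens := ⟨(O : Set U.left) ∩ Cᶜ, O.2.inter hC.isOpen_compl⟩
  let incl : openE U O' ⟶ openE U O :=
    MorphismProperty.Over.homMk (U.left.homOfLE (fun _ h => h.1 : O' ≤ O))
      (show U.left.homOfLE (fun _ h => h.1 : O' ≤ O) ≫ O.ι ≫ U.hom = O'.ι ≫ U.hom by rw [← Category.assoc, Scheme.homOfLE_ι])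
  have hincl : incl ≫ openι U O = openι U O' := hom_ext (Scheme.homOfLE_ι U.left (fun _ h => h.1 : O' ≤ O))
  have h0 : (c.ι.app i).hom.app (op (openE U O')) (res (D.obj i) incl t) = 0 := by
    refine (NatTrans.naturality_apply (c.ι.app i).hom incl.op t).trans ((congrArg (res c.pt incl) ht).trans ?_)
    rw [res_res, hincl]
    exact res_eq_zero_of_avoid (openι U O') x le_rfl fun w => (openι_mem O' w).2
  obtain ⟨j, a, ha⟩ := exists_map_sect_eq_zero hc (openE U O')
    (isQcqs_openE U (isCompact_open_of_subset hO fun _ h => h.1)) _ h0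
  let t' : EtCoh.sect (D.obj j) (openE U O) := (D.map a).hom.app (op (openE U O)) t
  have ht' : res (D.obj j) incl t' = 0 :=
    (NatTrans.naturality_apply (D.map a).hom incl.op t).symm.trans ha
  have hsupp : EtShriek.sectSupp (D.obj j) (openE U O) t' ⊆ (openι U O).left.base ⁻¹' C := fun w hw => by
    by_contra hwC
    have hm : (openι U O).left.base w ∈ O' := ⟨openι_mem O w, hwC⟩
    refine notMem_sectSupp.2 ⟨openE U O', incl, ⟨_, hm⟩, ?_, ht'⟩ hw
    refine O.ι.isOpenEmbedding.injective ?_
    exact (Scheme.Hom.comp_apply _ _ _).symm.trans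
      (congrArg (fun q : O'.toScheme ⟶ U.left => q.base ⟨_, hm⟩) (Scheme.homOfLE_ι U.left (fun _ h => h.1 : O' ≤ O)))
  obtain ⟨s, hs, hs'⟩ := exists_extension (bijOn_openι U O hCO) (fun y _ => bijective_residue_openι U O y) hC t' hsupp
  refine ⟨j, s, ?_, hs⟩
  refine eq_of_res_eq (bijOn_openι U O hCO) hC _ x ((EtShriek.sectSupp_map_subset _ _ _).trans hs) le_rfl ?_
  refine (NatTrans.naturality_apply (c.ι.app j).hom (openι U O).op s).symm.trans
    ((congrArg ((c.ι.app j).hom.app (op (openE U O))) hs').trans ?_)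
  refine Eq.trans ?_ ht
  exact ConcreteCategory.congr_hom (congrArg (fun q => q.hom.app (op (openE U O))) (c.w a)) t

end Groth.Agent.EtExcision
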