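import Groth.Agent.SiteBase.EtExcision.LeftExact
import Groth.Agent.SiteBase.EtExcision.CompactSupportColim
import Groth.Agent.ShriekBC11.Main
import Mathlib.CategoryTheory.Filtered.Small

/-!
# Direct images with proper support commute with filtered colimits
-/

set_option autoImplicit false
set_option linter.style.haveILetI false
set_option maxHeartbeats 800000

universe u

open CategoryTheory CategoryTheory.Limits AlgebraicGeometry Opposite

namespace Groth.Agent.EtExcision

set_option backward.isDefEq.respectTransparency.types false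

section Fibre

variable {X Y : Scheme.{u}} (f : X ⟶ Y) [IsSeparated f] [LocallyOfFiniteType f]
  {Ω : Type u} [Field Ω] [IsAlgClosed Ω] (η : Spec (CommRingCat.of Ω) ⟶ Y)

/-- the stalk of `f_!` as the stalk of `f_!` on the fibre -/
noncomputable def fibreHom (F : EtCoh.Ab X) :
    (EtCoh.stalk η).obj ((shrF f).obj F) ⟶
      (EtCoh.stalk (𝟙 (Spec (CommRingCat.of Ω)))).obj
        ((shrF (pullback.snd f η)).obj ((EtCoh.pull (pullback.fst f η)).obj F)) :=
  ShriekBC11.θ (ShriekBC11.ψ (IsPullback.of_hasPullback f η) ((EtCoh.pullPushAdj (pullback.fst f η)).unit.app F))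
    (Category.id_comp η)

/-- naturally -/
noncomputable def fibreNatIso :
    shrF f ⋙ EtCoh.stalk η ≅
      EtCoh.pull (pullback.fst f η) ⋙ shrF (pullback.snd f η) ⋙ EtCoh.stalk (𝟙 (Spec (CommRingCat.of Ω))) :=
  haveI : ∀ F, IsIso (fibreHom f η F) := fun F => (ConcreteCategory.isIso_iff_bijective _).2
    ((ShriekBC11.bcGood f (IsPullback.of_hasPullback f η) _ (ShriekBC11.pd_unit (pullback.fst f η) F)).bijective
      (z' := 𝟙 (Spec (CommRingCat.of Ω))) (Category.id_comp η))
  NatIso.ofComponents (fun F => asIso (fibreHom f η F)) fun {F G} a =>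
    ConcreteCategory.hom_ext _ _ fun p => ShriekBC11.gz_ext (pullback.snd f η) fun z' => by
      let q := pullback.fst f η
      have H := IsPullback.of_hasPullback f η
      have hz : (z'.1 ≫ q) ≫ f = η := by
        rw [Category.assoc, H.w, ← Category.assoc, z'.2, Category.id_comp]
      let z : Pts f η := ⟨z'.1 ≫ q, hz⟩
      refine (ShriekBC11.gz_θψ H ((EtCoh.pullPushAdj q).unit.app G) (Category.id_comp η)
        ((EtCoh.stalk η).map ((shrF f).map a) p) z' z rfl).trans ?_
      refine Eq.trans ?_ (ConcreteCategory.congr_hom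
        (gz_naturality (pullback.snd f η) ((EtCoh.pull q).map a) z') (fibreHom f η F p)).symm
      refine (congrArg (ShriekBC11.θ ((EtCoh.pullPushAdj q).unit.app G) rfl)
        (ConcreteCategory.congr_hom (gz_naturality f a z) p)).trans ?_
      refine Eq.trans ?_ (congrArg ((EtCoh.stalk z'.1).map ((EtCoh.pull q).map a))
        (ShriekBC11.gz_θψ H ((EtCoh.pullPushAdj q).unit.app F) (Category.id_comp η) p z' z rfl)).symm
      have e : (EtCoh.stalk z.1).map a ≫ ShriekBC11.θ ((EtCoh.pullPushAdj q).unit.app G) (z' := z'.1) rfl =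
          ShriekBC11.θ ((EtCoh.pullPushAdj q).unit.app F) rfl ≫ (EtCoh.stalk z'.1).map ((EtCoh.pull q).map a) := by
        rw [← ShriekBC11.θ_comp]
        have n : a ≫ (EtCoh.pullPushAdj q).unit.app G =
            (EtCoh.pullPushAdj q).unit.app F ≫ (EtCoh.push q).map ((EtCoh.pull q).map a) :=
          (EtCoh.pullPushAdj q).unit.naturality a
        rw [← n, ShriekBC11.θ, ShriekBC11.θ, Functor.map_comp, Category.assoc]
      exact ConcreteCategory.congr_hom e (gz f F z p)

end Fibre

section OverField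

variable {Z : Scheme.{u}} {Ω : Type u} [Field Ω] [IsSepClosed Ω] (p : Z ⟶ Spec (CommRingCat.of Ω))
  [IsSeparated p] [LocallyOfFiniteType p]

/-- global sections of `p_!` -/
noncomputable abbrev shrTop : EtCoh.Ab Z ⥤ AddCommGrpCat.{u + 1} :=
  shrF p ⋙ sheafToPresheaf _ _ ⋙ (evaluation _ _).obj (op (EtCoh.top (Spec (CommRingCat.of Ω))))

/-- global sections are the stalk -/
noncomputable def topStalkIso : shrTop p ≅ shrF p ⋙ EtCoh.stalk (𝟙 (Spec (CommRingCat.of Ω))) :=
  NatIso.ofComponents
    (fun F => (AddEquiv.ofBijective ((Scheme.pointSmallEtale (𝟙 (Spec (CommRingCat.of Ω)))).toPresheafFiber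
      (EtCoh.top (Spec (CommRingCat.of Ω))) (CategoryTheory.Over.homMk (𝟙 _) (Category.comp_id _))
      ((shrF p).obj F).obj).hom (ShriekBC11.germ_top_bijective ((shrF p).obj F))).toAddCommGrpIso)
    fun a => ConcreteCategory.hom_ext _ _ fun s =>
      ((Scheme.pointSmallEtale (𝟙 (Spec (CommRingCat.of Ω)))).toPresheafFiber_naturality_apply
        ((shrF p).map a).hom _ _ s).symm

omit [IsSepClosed Ω] [IsSeparated p] in
theorem isCompact_sectSupp_top (F : EtCoh.Ab Z) (s : (shrTop p).obj F) :
    IsCompact (EtShriek.sectSupp F ((EtCoh.bc p).obj (EtCoh.top (Spec (CommRingCat.of Ω)))) s.1) := by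
  obtain ⟨hC, hP⟩ := (shriekPred_iff p F _ s.1).1 (shriekPred_of_mem p F _ s.1 s.2)
  let i := (Scheme.IdealSheafData.vanishingIdeal ⟨_, hC⟩).subschemeι
  haveI : IsProper (i ≫ EtShriek.prV p (EtCoh.top (Spec (CommRingCat.of Ω)))) := hP
  haveI : CompactSpace ↥((EtCoh.top (Spec (CommRingCat.of Ω))).left) :=
    inferInstanceAs (CompactSpace ↥(Spec (CommRingCat.of Ω)))
  haveI : CompactSpace ↥((Scheme.IdealSheafData.vanishingIdeal ⟨_, hC⟩).subscheme : Scheme.{u}) :=
    QuasiCompact.compactSpace_of_compactSpace (i ≫ EtShriek.prV p (EtCoh.top (Spec (CommRingCat.of Ω))))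
  rw [← QCoh.range_vanishing hC]
  exact isCompact_range i.continuous

instance isLocallyNoetherian_bc_top :
    IsLocallyNoetherian ((EtCoh.bc p).obj (EtCoh.top (Spec (CommRingCat.of Ω)))).left :=
  haveI : IsLocallyNoetherian (EtCoh.top (Spec (CommRingCat.of Ω))).left :=
    inferInstanceAs (IsLocallyNoetherian (Spec (CommRingCat.of Ω)))
  LocallyOfFiniteType.isLocallyNoetherian (EtShriek.prV p (EtCoh.top (Spec (CommRingCat.of Ω))))

omit [IsSepClosed Ω] [IsSeparated p] in
theorem preservesColimitsOfShape_shrTop (K : Type (u + 1)) [SmallCategory K] [IsFiltered K] :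
    PreservesColimitsOfShape K (shrTop p) := by
  haveI : PreservesColimitsOfShape K (forget AddCommGrpCat.{u + 1}) := inferInstance
  haveI : ReflectsColimitsOfShape K (forget AddCommGrpCat.{u + 1}) :=
    reflectsColimitsOfShape_of_reflectsIsomorphisms
  refine ⟨fun {D} => ⟨fun {c} hc => ⟨isColimitOfReflects (forget AddCommGrpCat.{u + 1})
    (Types.FilteredColimit.isColimitOf _ _ (fun x => ?_) fun i j a b hab => ?_)⟩⟩⟩
  · let T := EtCoh.top (Spec (CommRingCat.of Ω))
    let U := (EtCoh.bc p).obj T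
    obtain ⟨i, s, hs, hs'⟩ := exists_rep_of_isCompact hc U x.1 (isCompact_sectSupp_top p c.pt x)
    have hm : s ∈ EtShriek.shriekSubgroup p (D.obj i) T := AddSubgroup.subset_closure
      ((shriekPred_iff p (D.obj i) T s).2 (QCoh.IsProperOver.subset
        ((shriekPred_iff p c.pt T x.1).1 (shriekPred_of_mem p c.pt T x.1 x.2)) (isClosed_sectSupp s) hs'))
    exact ⟨i, ⟨s, hm⟩, Subtype.ext hs.symm⟩
  · let T := EtCoh.top (Spec (CommRingCat.of Ω))
    let U := (EtCoh.bc p).obj T
    let f₁ := IsFiltered.leftToMax i j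
    let f₂ := IsFiltered.rightToMax i j
    have hw : ∀ {i k : K} (g : i ⟶ k) (y : (shrTop p).obj (D.obj i)),
        (shrTop p).map (c.ι.app k) ((shrTop p).map (D.map g) y) = (shrTop p).map (c.ι.app i) y := fun g y => by
      rw [← ConcreteCategory.comp_apply, ← Functor.map_comp, c.w]
    let d : (shrTop p).obj (D.obj (IsFiltered.max i j)) :=
      (shrTop p).map (D.map f₁) a - (shrTop p).map (D.map f₂) b
    have hd : (shrTop p).map (c.ι.app (IsFiltered.max i j)) d = 0 := by
      rw [map_sub, hw, hw]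
      exact sub_eq_zero.2 hab
    obtain ⟨k, g, hg⟩ := exists_map_eq_zero_of_isCompact hc U d.1 (isCompact_sectSupp_top p _ d)
      (congrArg Subtype.val hd)
    have h0 : (shrTop p).map (D.map g) d = 0 := Subtype.ext hg
    refine ⟨k, f₁ ≫ g, f₂ ≫ g, ?_⟩
    rw [map_sub, sub_eq_zero, ← ConcreteCategory.comp_apply, ← ConcreteCategory.comp_apply,
      ← Functor.map_comp, ← Functor.map_comp, ← Functor.map_comp, ← Functor.map_comp] at h0
    exact h0

end OverField

theorem preservesFilteredColimits_lowerShriek {X Y : Scheme.{u}} (f : X ⟶ Y) [IsSeparated f]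
    [LocallyOfFiniteType f] : PreservesFilteredColimitsOfSize.{u, u} (EtShriek.lowerShriek f) := by
  refine ⟨fun K _ _ => ?_⟩
  suffices h : PreservesColimitsOfShape (AsSmall.{u + 1} K) (EtShriek.lowerShriek f) from
    preservesColimitsOfShape_of_equiv (AsSmall.equiv (C := K)).symm _
  haveI : IsFiltered (AsSmall.{u + 1} K) := IsFiltered.of_equivalence AsSmall.equiv
  suffices h : PreservesColimitsOfShape (AsSmall.{u + 1} K) (shrF f) from
    preservesColimitsOfShape_of_natIso (lowerShriekIso f).symm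
  refine ⟨fun {D} => ⟨fun {c} hc => ⟨(jointlyReflect_algPt Y).jointlyReflectsColimit fun pt => ?_⟩⟩⟩
  haveI := preservesColimitsOfShape_shrTop (pullback.snd f pt.pt) (AsSmall.{u + 1} K)
  haveI : PreservesColimitsOfShape (AsSmall.{u + 1} K)
      (shrF (pullback.snd f pt.pt) ⋙ EtCoh.stalk (𝟙 (Spec (CommRingCat.of pt.Ω)))) :=
    preservesColimitsOfShape_of_natIso (topStalkIso (pullback.snd f pt.pt))
  haveI : PreservesColimitsOfSize.{u + 1, u + 1} (EtCoh.pull (pullback.fst f pt.pt)) :=
    (EtCoh.pullPushAdj (pullback.fst f pt.pt)).leftAdjoint_preservesColimits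
  haveI : PreservesColimitsOfShape (AsSmall.{u + 1} K) (EtCoh.pull (pullback.fst f pt.pt) ⋙
      shrF (pullback.snd f pt.pt) ⋙ EtCoh.stalk (𝟙 (Spec (CommRingCat.of pt.Ω)))) := inferInstance
  haveI := preservesColimitsOfShape_of_natIso (J := AsSmall.{u + 1} K) (fibreNatIso f pt.pt).symm
  exact isColimitOfPreserves (shrF f ⋙ EtCoh.stalk pt.pt) hc

end Groth.Agent.EtExcision
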