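import Groth.Agent.SiteBase.EtExcision.Germs

/-!
# Supports of sections of a direct image with proper support
-/

set_option autoImplicit false

universe u

open CategoryTheory CategoryTheory.Limits AlgebraicGeometry Opposite

namespace Groth.Agent.EtExcision

set_option backward.isDefEq.respectTransparency.types false

section ProperOverComp

variable {A B C : Scheme.{u}} {p : A ⟶ B} {q : B ⟶ C} {r : A ⟶ C} [LocallyOfFiniteType p] [LocallyOfFiniteType q]

/-- Properness over a base through an intermediate scheme. -/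
theorem isProperOver_comp (w : p ≫ q = r) {Z : Set A} (h1 : ClSub.IsProperOver p Z)
    (h2 : ClSub.IsProperOver q (⇑p '' Z)) : ClSub.IsProperOver r Z := by
  subst w
  obtain ⟨hC, hP⟩ := h1
  let i := (Scheme.IdealSheafData.vanishingIdeal ⟨Z, hC⟩).subschemeι
  have hk : IsProper (i ≫ p) := hP
  let k := i ≫ p
  have : QuasiCompact k := inferInstance
  have hr : Set.range k.imageι ⊆ ⇑p '' Z := by
    rw [Scheme.Hom.imageι, Scheme.IdealSheafData.range_subschemeι]
    rw [show (k.ker.support : Set B) = closure (Set.range k) from k.support_ker]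
    refine closure_minimal ?_ h2.1
    rintro _ ⟨t, rfl⟩
    exact ⟨i t, (QCoh.range_vanishing hC).le ⟨t, rfl⟩, (Scheme.Hom.comp_apply i p t).symm⟩
  have : IsProper (k.imageι ≫ q) := QCoh.isProper_comp_of_isProperOver k.imageι h2 hr
  have : IsProper (k.toImage ≫ k.imageι) := by rw [Scheme.Hom.toImage_imageι]; exact hk
  have : IsProper k.toImage := IsProper.of_comp k.toImage k.imageι
  have : IsProper (i ≫ p ≫ q) := by
    rw [← Category.assoc, show i ≫ p = k.toImage ≫ k.imageι from (Scheme.Hom.toImage_imageι k).symm,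
      Category.assoc]
    infer_instance
  exact ⟨hC, this⟩

theorem isProperOver_of_comp [IsSeparated q] (w : p ≫ q = r) {Z : Set A} (h : ClSub.IsProperOver r Z) :
    ClSub.IsProperOver p Z := by
  subst w
  obtain ⟨hC, hP⟩ := h
  let i := (Scheme.IdealSheafData.vanishingIdeal ⟨Z, hC⟩).subschemeι
  have : IsProper ((i ≫ p) ≫ q) := by rw [Category.assoc]; exact hP
  exact ⟨hC, IsProper.of_comp (i ≫ p) q⟩

theorem isProperOver_image [IsSeparated q] (w : p ≫ q = r) {Z : Set A} (h : ClSub.IsProperOver r Z) :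
    ClSub.IsProperOver q (⇑p '' Z) := by
  subst w
  refine QCoh.IsProperOver.image rfl h fun i _ hi => ?_
  have : IsProper ((i ≫ p) ≫ q) := by rw [Category.assoc]; exact hi
  have := IsProper.of_comp (i ≫ p) q
  infer_instance

theorem isClosed_image_of_isProperOver {Z : Set A} (h : ClSub.IsProperOver p Z) : IsClosed (⇑p '' Z) := by
  obtain ⟨hC, hP⟩ := h
  let i := (Scheme.IdealSheafData.vanishingIdeal ⟨Z, hC⟩).subschemeι
  have : IsProper (i ≫ p) := hP
  have e : ⇑p '' Z = Set.range (i ≫ p) := by
    rw [show ⇑(i ≫ p) = ⇑p ∘ ⇑i from funext fun x => Scheme.Hom.comp_apply i p x, Set.range_comp,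
      QCoh.range_vanishing]
  rw [e]
  exact (i ≫ p).isClosedMap.isClosed_range

end ProperOverComp

variable {X Y : Scheme.{u}} (f : X ⟶ Y) [LocallyOfFiniteType f]

theorem isProperOver_sectSupp_mem (F : EtCoh.Ab X) (W : Y.Etale) (t : ((shrF f).obj F).obj.obj (op W)) :
    ClSub.IsProperOver (EtShriek.prV f W) (EtShriek.sectSupp F ((EtCoh.bc f).obj W) t.1) :=
  (shriekPred_iff f F W t.1).1 (shriekPred_of_mem f F W t.1 t.2)

/-- The support of a section of the direct image with proper support is the image of the support. -/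
theorem sectSupp_shrF (F : EtCoh.Ab X) (W : Y.Etale) (t : ((shrF f).obj F).obj.obj (op W)) :
    EtShriek.sectSupp ((shrF f).obj F) W t =
      ⇑(EtShriek.prV f W) '' EtShriek.sectSupp F ((EtCoh.bc f).obj W) t.1 := by
  ext y
  constructor
  · intro hy
    by_contra hyC
    let O : W.left.Opens :=
      ⟨(⇑(EtShriek.prV f W) '' EtShriek.sectSupp F ((EtCoh.bc f).obj W) t.1)ᶜ,
        (isClosed_image_of_isProperOver (isProperOver_sectSupp_mem f F W t)).isOpen_compl⟩
    obtain ⟨o, ho⟩ := exists_openι (O := O) (x := y) hyC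
    refine notMem_sectSupp.2 ⟨_, openι W O, o, ho, Subtype.ext
      (eq_zero_of_sectSupp_eq_empty (res F ((EtCoh.bc f).map (openι W O)) t.1) ?_)⟩ hy
    rw [sectSupp_res]
    refine Set.eq_empty_iff_forall_notMem.2 fun x hx => ?_
    refine openι_mem O ((EtShriek.prV f (openE W O)).base x) ⟨_, hx, ?_⟩
    exact ((Scheme.Hom.comp_apply _ _ x).symm.trans (congrArg
      (fun m : ((EtCoh.bc f).obj (openE W O)).left ⟶ W.left => m.base x)
      (EtCoh.isPullback_bc_map f (openι W O)).w)).trans (Scheme.Hom.comp_apply _ _ x)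
  · rintro ⟨x, hx, rfl⟩
    by_contra h
    obtain ⟨V, g, v, hv, h0⟩ := notMem_sectSupp.1 h
    have sq := EtCoh.isPullback_bc_map f g
    obtain ⟨z, hz, -⟩ := Scheme.Pullback.exists_preimage_pullback (f := EtShriek.prV f W) (g := g.left) x v hv.symm
    refine hx _ ((EtCoh.bc f).map g) ⟨sq.isoPullback.inv.base z, ?_⟩ (congrArg Subtype.val h0)
    rw [← Scheme.Hom.comp_apply, sq.isoPullback_inv_fst]
    exact hz

end Groth.Agent.EtExcision
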