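import Groth.Agent.SiteBase.EtExcision.Germs
import Groth.Agent.EtFound.ExtZeroExact
import Groth.Agent.EtFound.CounitEpi
import Groth.Agent.EtFound.JContGen

/-!
# Sections with proper support and prescribed germ at one point of a fibre
-/

set_option autoImplicit false

universe u

open CategoryTheory CategoryTheory.Limits AlgebraicGeometry Opposite

namespace Groth.Agent.EtExcision

set_option backward.isDefEq.respectTransparency.types false

variable {X Y : Scheme.{u}} (f : X ⟶ Y) [IsSeparated f] [LocallyOfFiniteType f] [LocallyQuasiFinite f]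
  {Ω : Type u} [Field Ω] [IsAlgClosed Ω] {η : Spec (CommRingCat.of Ω) ⟶ Y}

/-- An étale neighbourhood with a finite clopen piece through a point of the fibre. -/
theorem exists_finite_piece (z : Pts f η) :
    ∃ (V : Y.Etale) (T : ((EtCoh.bc f).obj V).left.Opens)
      (l : Spec (CommRingCat.of Ω) ⟶ T.toScheme),
      IsClosed (T : Set ((EtCoh.bc f).obj V).left) ∧ IsFinite (T.ι ≫ EtShriek.prV f V) ∧
        l ≫ T.ι ≫ pullback.snd V.hom f = z.1 := by
  obtain ⟨z, rfl⟩ := z
  obtain ⟨W, g, hg, -, O, O', t, hOO, hfin, ht⟩ := exists_etale_isCompl_of_quasiFiniteAt f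
    (x := z.base (default : Spec (CommRingCat.of Ω))) rfl (f.quasiFiniteAt _)
  let σ := pullbackSymmetry g f
  let V : Y.Etale := MorphismProperty.Over.mk ⊤ g hg
  let T : (pullback g f).Opens := σ.hom ⁻¹ᵁ O
  let t' : T.toScheme := ⟨σ.inv.base t.1, by
    show σ.hom.base (σ.inv.base t.1) ∈ O
    rw [← Scheme.Hom.comp_apply, Iso.inv_hom_id]
    exact t.2⟩
  let h : T.toScheme ⟶ X := T.ι ≫ pullback.snd g f
  have := hg
  have he : AlgebraicGeometry.Etale h :=
    MorphismProperty.comp_mem @AlgebraicGeometry.Etale _ _ inferInstance (MorphismProperty.pullback_snd _ _ hg)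
  have hh : h.base t' = z.base (default : Spec (CommRingCat.of Ω)) := by
    rw [← ht, ← pullbackSymmetry_inv_comp_snd g f, Scheme.Hom.comp_apply, Scheme.Hom.comp_apply]
    rfl
  obtain ⟨l, hl, -⟩ := Scheme.exists_fac_of_etale_of_isSepClosed h z t' hh
  refine ⟨V, T, l, ?_, ?_, hl⟩
  · have hc : IsClosed (O : Set ↥(pullback f g)) := by
      rw [show (O : Set ↥(pullback f g)) = (O' : Set ↥(pullback f g))ᶜ from ?_]
      · exact O'.2.isClosed_compl
      · ext y
        refine ⟨fun hy hy' => ?_, fun hy => ?_⟩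
        · exact (SetLike.ext_iff.1 hOO.inf_eq_bot y).1 ⟨hy, hy'⟩
        · exact ((SetLike.ext_iff.1 hOO.sup_eq_top y).2 trivial).resolve_right hy
    exact hc.preimage σ.hom.base.hom.continuous
  · show IsFinite ((σ.hom ⁻¹ᵁ O).ι ≫ pullback.fst g f)
    rw [← pullbackSymmetry_hom_comp_snd g f, ← Category.assoc, ← morphismRestrict_ι, Category.assoc]
    exact MorphismProperty.comp_mem @IsFinite _ _ inferInstance hfin

omit [IsSeparated f] [LocallyQuasiFinite f] in
/-- Values at the fibre of a section computed on an étale neighbourhood of a point. -/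
theorem gz_germ_of_map (F : EtCoh.Ab X) (z : Pts f η) (V : Y.Etale) (v : (Scheme.pointSmallEtale η).fiber.obj V)
    (s : EtCoh.sect F ((EtCoh.bc f).obj V)) (hs : EtShriek.ShriekPred f F V s) {P : X.Etale}
    (m : P ⟶ (EtCoh.bc f).obj V) (u : (Scheme.pointSmallEtale z.1).fiber.obj P)
    (hu : (Scheme.pointSmallEtale z.1).fiber.map m u = EtFound.liftPt f z.2 v) :
    gz f F z ((Scheme.pointSmallEtale η).toPresheafFiber V v ((shrF f).obj F).obj
        ⟨s, AddSubgroup.subset_closure hs⟩) =
      (Scheme.pointSmallEtale z.1).toPresheafFiber P u F.obj (res F m s) := by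
  rw [gz_germ, ← hu]
  exact ((Scheme.pointSmallEtale z.1).toPresheafFiber_w_apply m u F.obj s).symm

section Piece

omit [IsSeparated f] [LocallyQuasiFinite f]

variable {V : Y.Etale} (T : (pullback V.hom f).Opens)

omit [LocallyOfFiniteType f] in
theorem etale_piece : AlgebraicGeometry.Etale (T.ι ≫ pullback.snd V.hom f) :=
  MorphismProperty.comp_mem @AlgebraicGeometry.Etale _ _ inferInstance (MorphismProperty.pullback_snd _ _ V.prop)

variable (W : V.left.Etale)

omit [LocallyOfFiniteType f] in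
/-- An étale neighbourhood of the base of the piece, over `Y`. -/
noncomputable def base1 : Y.Etale :=
  MorphismProperty.Over.mk ⊤ (W.hom ≫ V.hom) (MorphismProperty.comp_mem EtCoh.etaleMP _ _ W.prop V.prop)

omit [LocallyOfFiniteType f] in
/-- The piece over a neighbourhood of its base, over `X`. -/
noncomputable def piece1 : X.Etale :=
  MorphismProperty.Over.mk ⊤ (pullback.snd W.hom (T.ι ≫ pullback.fst V.hom f) ≫ T.ι ≫ pullback.snd V.hom f)
    (MorphismProperty.comp_mem EtCoh.etaleMP _ _ (MorphismProperty.pullback_snd _ _ W.prop) (etale_piece f T))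

omit [LocallyOfFiniteType f] in
/-- The map of the piece to the base change. -/
noncomputable def pieceLeft : pullback W.hom (T.ι ≫ pullback.fst V.hom f) ⟶ pullback (W.hom ≫ V.hom) f :=
  pullback.lift (pullback.fst _ _) (pullback.snd _ _ ≫ T.ι ≫ pullback.snd V.hom f) (by
    rw [pullback.condition_assoc]
    simp only [Category.assoc, pullback.condition])

omit [LocallyOfFiniteType f] in
lemma pieceLeft_fst : pieceLeft f T W ≫ pullback.fst (W.hom ≫ V.hom) f = pullback.fst _ _ :=
  pullback.lift_fst _ _ _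

omit [LocallyOfFiniteType f] in
lemma pieceLeft_snd : pieceLeft f T W ≫ pullback.snd (W.hom ≫ V.hom) f =
    pullback.snd _ _ ≫ T.ι ≫ pullback.snd V.hom f :=
  pullback.lift_snd _ _ _

omit [LocallyOfFiniteType f] in
/-- The map of the piece to the base change, over `X`. -/
noncomputable def pieceHom : piece1 f T W ⟶ (EtCoh.bc f).obj (base1 W) :=
  MorphismProperty.Over.homMk (pieceLeft f T W) (pieceLeft_snd f T W)

/-- A section on a clopen finite piece extends with proper support. -/
theorem exists_piece_section (hTc : IsClosed (T : Set ↥(pullback V.hom f)))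
    [IsFinite (T.ι ≫ pullback.fst V.hom f)] (F : EtCoh.Ab X) (c : EtCoh.sect F (piece1 f T W)) :
    ∃ s : EtCoh.sect F ((EtCoh.bc f).obj (base1 W)), EtShriek.ShriekPred f F (base1 W) s ∧
      EtShriek.sectSupp F _ s ⊆ Set.range (pieceLeft f T W).base ∧ res F (pieceHom f T W) s = c ∧
      IsClosedImmersion (pieceLeft f T W) := by
  let φ : base1 W ⟶ V := MorphismProperty.Over.homMk W.hom rfl
  let bl : pullback (W.hom ≫ V.hom) f ⟶ pullback V.hom f := ((EtCoh.bc f).map φ).left
  have hsq : IsPullback bl (pullback.fst (W.hom ≫ V.hom) f) (pullback.fst V.hom f) W.hom :=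
    EtCoh.isPullback_bc_map f φ
  have hbl : bl ≫ pullback.snd V.hom f = pullback.snd (W.hom ≫ V.hom) f :=
    MorphismProperty.Over.w ((EtCoh.bc f).map φ)
  let ml := pieceLeft f T W
  have sq : IsPullback ml (pullback.snd _ _) bl T.ι := by
    refine IsPullback.of_right ?_ ?_ hsq.flip
    · rw [pieceLeft_fst]
      exact IsPullback.of_hasPullback _ _
    · refine pullback.hom_ext ?_ ?_
      · rw [Category.assoc, Category.assoc, hsq.w, reassoc_of% pieceLeft_fst f T W, pullback.condition]
      · rw [Category.assoc, Category.assoc, hbl, pieceLeft_snd]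
  have hmo : IsOpenImmersion ml := MorphismProperty.of_isPullback sq.flip inferInstance
  have hmr : Set.range ml.base = bl.base ⁻¹' T := by
    refine Set.Subset.antisymm ?_ fun y hy => ?_
    · rintro _ ⟨x, rfl⟩
      show bl.base (ml.base x) ∈ T
      rw [← Scheme.Hom.comp_apply, sq.w, Scheme.Hom.comp_apply]
      exact ((pullback.snd W.hom (T.ι ≫ pullback.fst V.hom f)).base x).2
    · obtain ⟨x, hx, -⟩ := Scheme.exists_preimage_of_isPullback sq y ⟨_, hy⟩ rfl
      exact ⟨x, hx⟩
  have hmc : IsClosed (Set.range ml.base) := hmr ▸ hTc.preimage bl.base.hom.continuous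
  have : IsClosedImmersion ml := IsClosedImmersion.of_isPreimmersion ml hmc
  have hbij : Set.BijOn ml.base (ml.base ⁻¹' Set.range ml.base) (Set.range ml.base) :=
    ⟨fun x hx => hx, ml.isOpenEmbedding.injective.injOn, fun y ⟨x, hx⟩ => ⟨x, ⟨x, rfl⟩, hx⟩⟩
  obtain ⟨s, hs, hsm⟩ := exists_extension (φ := pieceHom f T W) hbij
    (fun x _ => (ConcreteCategory.isIso_iff_bijective _).1
      (inferInstanceAs (IsIso (ml.residueFieldMap x))))
    hmc c (fun x _ => ⟨x, rfl⟩)
  refine ⟨s, ?_, hs, hsm, this⟩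
  rw [shriekPred_iff]
  have : IsProper (ml ≫ pullback.fst (W.hom ≫ V.hom) f) := by
    rw [pieceLeft_fst]
    infer_instance
  exact QCoh.isProperOver_of_subset (f := pullback.fst (W.hom ≫ V.hom) f) ml (isClosed_sectSupp s) hs

end Piece

/-- A section with proper support with prescribed germ at one point of the fibre and zero at the others. -/
theorem exists_delta (F : EtCoh.Ab X) (z : Pts f η) (a : (EtCoh.stalk z.1).obj F) :
    ∃ p : (EtCoh.stalk η).obj ((shrF f).obj F), gz f F z p = a ∧ ∀ z' : Pts f η, z' ≠ z → gz f F z' p = 0 := by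
  obtain ⟨V, T, l, hTc, hfin, hl⟩ := exists_finite_piece f z
  obtain ⟨z, hz⟩ := z
  have hl' : l ≫ T.ι ≫ pullback.snd V.hom f = z := hl
  subst hl'
  change (pullback V.hom f).Opens at T
  have he := etale_piece f T
  have := EtFound.jCont (T.ι ≫ pullback.snd V.hom f)
  let q : T.toScheme ⟶ V.left := T.ι ≫ pullback.fst V.hom f
  have : IsFinite q := hfin
  let G := (EtShriek.restrAlong (T.ι ≫ pullback.snd V.hom f)).obj F
  obtain ⟨b, hb⟩ := EtFound.restrStalkMap_surjective (T.ι ≫ pullback.snd V.hom f) l F a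
  classical
  obtain ⟨p₀, hp₀⟩ := (EtFound.pushStalkAt_bijective q (η := l ≫ q) G).2
    (fun ξ => if h : ξ = ⟨l, rfl⟩ then h ▸ b else 0)
  obtain ⟨W, w, c, rfl⟩ := (Scheme.pointSmallEtale (l ≫ q)).toPresheafFiber_jointly_surjective p₀
  have hv : (w.left : Spec (CommRingCat.of Ω) ⟶ W.left) ≫ W.hom = l ≫ q := CategoryTheory.Over.w w
  let v1 : (Scheme.pointSmallEtale η).fiber.obj (base1 W) := CategoryTheory.Over.homMk
    (w.left : Spec (CommRingCat.of Ω) ⟶ W.left)
    (((Category.assoc _ _ _).symm.trans (congrArg (· ≫ V.hom) hv)).trans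
      (Eq.trans (by simp only [q, Category.assoc]; exact congrArg (fun k => l ≫ T.ι ≫ k) pullback.condition) hz))
  obtain ⟨s, hpred, hs, hsm, hcl⟩ := exists_piece_section f T W hTc F c
  refine ⟨(Scheme.pointSmallEtale η).toPresheafFiber (base1 W) v1 ((shrF f).obj F).obj
    ⟨s, AddSubgroup.subset_closure hpred⟩, ?_⟩
  have hval : ∀ (ξ : {ξ : Spec (CommRingCat.of Ω) ⟶ T.toScheme // ξ ≫ q = l ≫ q})
      (h : (ξ.1 ≫ T.ι ≫ pullback.snd V.hom f) ≫ f = η),
      gz f F ⟨_, h⟩ ((Scheme.pointSmallEtale η).toPresheafFiber (base1 W) v1 ((shrF f).obj F).obj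
          ⟨s, AddSubgroup.subset_closure hpred⟩) =
        EtFound.restrStalkMap (T.ι ≫ pullback.snd V.hom f) ξ.1 F (if h : ξ = ⟨l, rfl⟩ then h ▸ b else 0) := by
    intro ξ h
    refine Eq.trans ?_ (congrArg (EtFound.restrStalkMap (T.ι ≫ pullback.snd V.hom f) ξ.1 F)
      ((EtFound.pushStalkAt_germ_apply q ξ.2 G w c).symm.trans (congrFun hp₀ ξ)))
    refine Eq.trans ?_ (ConcreteCategory.congr_hom
      (EtFound.restrStalkMap_germ (T.ι ≫ pullback.snd V.hom f) ξ.1 F ((EtCoh.bc q).obj W)
        (EtFound.liftPt q ξ.2 w)) c).symm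
    let u : (Scheme.pointSmallEtale (ξ.1 ≫ T.ι ≫ pullback.snd V.hom f)).fiber.obj (piece1 f T W) :=
      EtFound.extLiftPt (j := T.ι ≫ pullback.snd V.hom f) ⟨ξ.1, rfl⟩ ((EtCoh.bc q).obj W) (EtFound.liftPt q ξ.2 w)
    refine (gz_germ_of_map f F ⟨_, h⟩ (base1 W) v1 s hpred (pieceHom f T W) u ?_).trans
      (congrArg _ hsm)
    refine CategoryTheory.Over.OverMorphism.ext (pullback.hom_ext ?_ ?_)
    · refine Eq.trans ?_ (EtFound.liftPt_fst f h v1).symm
      refine (Category.assoc _ _ _).trans ((congrArg _ (pieceLeft_fst f T W)).trans ?_)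
      exact EtFound.liftPt_fst q ξ.2 w
    · refine Eq.trans ?_ (CategoryTheory.Over.w (EtFound.liftPt f h v1)).symm
      refine (Category.assoc _ _ _).trans ((congrArg _ (pieceLeft_snd f T W)).trans ?_)
      exact (Category.assoc _ _ _).symm.trans
        (congrArg (· ≫ T.ι ≫ pullback.snd V.hom f) (CategoryTheory.Over.w (EtFound.liftPt q ξ.2 w)))
  refine ⟨?_, fun z' hz' => ?_⟩
  · refine (hval ⟨l, rfl⟩ hz).trans ?_
    rw [dif_pos rfl]
    exact hb
  · obtain ⟨z', hz''⟩ := z'
    let y : Spec (CommRingCat.of Ω) ⟶ pullback (W.hom ≫ V.hom) f := (EtFound.liftPt f hz'' v1).left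
    by_cases hy : y.base (default : Spec (CommRingCat.of Ω)) ∈ Set.range (pieceLeft f T W).base
    · obtain ⟨x, hx⟩ := hy
      obtain ⟨l', hl', -⟩ := EtFound.exists_fac_of_integral (pieceLeft f T W) y x hx
      have e1 : l' ≫ pullback.fst W.hom q = (w.left : Spec (CommRingCat.of Ω) ⟶ W.left) :=
        ((congrArg _ (pieceLeft_fst f T W)).symm.trans ((Category.assoc _ _ _).symm.trans
          (congrArg (· ≫ pullback.fst (W.hom ≫ V.hom) f) hl'))).trans (EtFound.liftPt_fst f hz'' v1)
      have hξ : (l' ≫ pullback.snd W.hom q) ≫ q = l ≫ q := by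
        rw [Category.assoc, ← pullback.condition, ← Category.assoc]
        exact (congrArg (· ≫ W.hom) e1).trans hv
      have e2 : z' = (l' ≫ pullback.snd W.hom q) ≫ T.ι ≫ pullback.snd V.hom f :=
        (CategoryTheory.Over.w (EtFound.liftPt f hz'' v1)).symm.trans
          ((congrArg (· ≫ pullback.snd (W.hom ≫ V.hom) f) hl').symm.trans ((Category.assoc _ _ _).trans
            ((congrArg _ (pieceLeft_snd f T W)).trans (Category.assoc _ _ _).symm)))
      subst e2
      rw [hval ⟨_, hξ⟩ hz'', dif_neg, map_zero]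
      exact fun h => hz' (Subtype.ext (congrArg
        (fun k : {ξ : Spec (CommRingCat.of Ω) ⟶ T.toScheme // ξ ≫ q = l ≫ q} =>
          k.1 ≫ T.ι ≫ pullback.snd V.hom f) h))
    · exact (gz_germ_eq_zero_iff f ⟨z', hz''⟩ (base1 W) v1 _).2 fun h => hy (hs h)

end Groth.Agent.EtExcision
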