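import Groth.Agent.SiteBase.EtExcision.Shriek
import Groth.Agent.EtFound.FiniteStalk
import Mathlib.AlgebraicGeometry.ZariskisMainTheorem

/-!
# Germs of sections with proper support at the geometric points of the fibre
-/

set_option autoImplicit false

universe u

open CategoryTheory CategoryTheory.Limits AlgebraicGeometry Opposite

namespace Groth.Agent.EtExcision

set_option backward.isDefEq.respectTransparency.types false

variable {X Y : Scheme.{u}} (f : X ⟶ Y)

section Sheaf

variable [LocallyOfFiniteType f]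

/-- Sections with proper support, as a functor to sheaves. -/
noncomputable def shrF : EtCoh.Ab X ⥤ EtCoh.Ab Y where
  obj F := ⟨EtShriek.lowerShriekPre f F, isSheaf_lowerShriekPre f F⟩
  map a := ObjectProperty.homMk ((EtShriek.lowerShriekPreFunctor f).map a)
  map_id F := Sheaf.hom_ext ((EtShriek.lowerShriekPreFunctor f).map_id F)
  map_comp a b := Sheaf.hom_ext ((EtShriek.lowerShriekPreFunctor f).map_comp a b)

/-- The presheaf of sections with proper support is the direct image with proper support. -/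
noncomputable def lowerShriekIso : EtShriek.lowerShriek f ≅ shrF f :=
  Functor.isoWhiskerLeft (shrF f) (sheafificationNatIso Y.smallEtaleTopology AddCommGrpCat.{u + 1}).symm ≪≫
    (shrF f).rightUnitor

/-- The inclusion into the direct image. -/
noncomputable def shrι : shrF f ⟶ EtCoh.push f where
  app F := ObjectProperty.homMk (EtShriek.lowerShriekPreι f F)
  naturality F G a := Sheaf.hom_ext (NatTrans.ext (funext fun V => by
    ext s
    rfl))

end Sheaf

/-- Points over a geometric point lift through every point of the fibre. -/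
theorem exists_lift_of_locallyQuasiFinite {T V : Scheme.{u}} (q : T ⟶ V) [LocallyQuasiFinite q]
    {Ω : Type u} [Field Ω] [IsAlgClosed Ω] (v : Spec (CommRingCat.of Ω) ⟶ V) (x : T)
    (hx : q.base x = v.base (default : Spec (CommRingCat.of Ω))) :
    ∃ l : Spec (CommRingCat.of Ω) ⟶ T, l ≫ q = v ∧ l.base (default : Spec (CommRingCat.of Ω)) = x := by
  obtain ⟨z, hz, -⟩ := Scheme.Pullback.exists_preimage_pullback (f := q) (g := v) x default hx
  obtain ⟨_, ⟨(O : (pullback q v).Opens), hO, rfl⟩, hzO, -⟩ :=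
    (pullback q v).isBasis_affineOpens.exists_subset_of_mem_open (Set.mem_univ z) isOpen_univ
  have : IsAffine O.toScheme := hO
  have : IsFinite (O.ι ≫ pullback.snd q v) := IsFinite.of_locallyQuasiFinite _
  obtain ⟨l, hl, hlz⟩ := EtFound.exists_section_of_integral (O.ι ≫ pullback.snd q v) ⟨z, hzO⟩
  refine ⟨l ≫ O.ι ≫ pullback.fst q v, ?_, ?_⟩
  · simp only [Category.assoc, pullback.condition]
    rw [reassoc_of% hl]
  · rw [Scheme.Hom.comp_apply, hlz, Scheme.Hom.comp_apply]
    exact hz

theorem eq_zero_of_sectSupp_eq_empty {F : EtCoh.Ab X} {U : X.Etale} (s : EtCoh.sect F U)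
    (h : EtShriek.sectSupp F U s = ∅) : s = 0 :=
  (res_id F s).symm.trans (res_eq_zero_of_avoid (𝟙 U) s (T := ∅) h.le fun _ hw => hw)

variable [LocallyOfFiniteType f] {Ω : Type u} [Field Ω] [IsAlgClosed Ω] {η : Spec (CommRingCat.of Ω) ⟶ Y}

/-- The points of the fibre. -/
abbrev Pts (η : Spec (CommRingCat.of Ω) ⟶ Y) : Type u := {ξ : Spec (CommRingCat.of Ω) ⟶ X // ξ ≫ f = η}

/-- The germ of a section with proper support at a point of the fibre. -/
noncomputable def gz (F : EtCoh.Ab X) (z : Pts f η) :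
    (EtCoh.stalk η).obj ((shrF f).obj F) ⟶ (EtCoh.stalk z.1).obj F :=
  (EtCoh.stalk η).map ((shrι f).app F) ≫ (EtFound.pushStalkAt f z.2).app F

theorem gz_naturality {F G : EtCoh.Ab X} (a : F ⟶ G) (z : Pts f η) :
    (EtCoh.stalk η).map ((shrF f).map a) ≫ gz f G z = gz f F z ≫ (EtCoh.stalk z.1).map a := by
  rw [gz, gz, ← Functor.map_comp_assoc, (shrι f).naturality, Functor.map_comp_assoc, Category.assoc]
  exact congrArg _ ((EtFound.pushStalkAt f z.2).naturality a)

theorem gz_germ {F : EtCoh.Ab X} (z : Pts f η) (V : Y.Etale) (v : (Scheme.pointSmallEtale η).fiber.obj V)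
    (s : ((shrF f).obj F).obj.obj (op V)) :
    gz f F z ((Scheme.pointSmallEtale η).toPresheafFiber V v ((shrF f).obj F).obj s) =
      (Scheme.pointSmallEtale z.1).toPresheafFiber ((EtCoh.bc f).obj V) (EtFound.liftPt f z.2 v) F.obj s.1 := by
  refine (congrArg ((EtFound.pushStalkAt f z.2).app F)
    ((Scheme.pointSmallEtale η).toPresheafFiber_naturality_apply ((shrι f).app F).hom V v s)).trans ?_
  exact EtFound.pushStalkAt_germ_apply f z.2 F v s.1

/-- A germ vanishes exactly off the support. -/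
theorem germ_eq_zero_iff {F : EtCoh.Ab X} {ξ : Spec (CommRingCat.of Ω) ⟶ X} (U : X.Etale)
    (u : (Scheme.pointSmallEtale ξ).fiber.obj U) (s : EtCoh.sect F U) :
    (Scheme.pointSmallEtale ξ).toPresheafFiber U u F.obj s = 0 ↔
      (u.left : Spec (CommRingCat.of Ω) ⟶ U.left).base (default : Spec (CommRingCat.of Ω)) ∉
        EtShriek.sectSupp F U s := by
  constructor
  · intro h
    obtain ⟨W, g, w, hw, h0⟩ := ((Scheme.pointSmallEtale ξ).toPresheafFiber_eq_iff' U u s 0).1
      (h.trans (map_zero _).symm)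
    refine notMem_sectSupp.2 ⟨W, g, (w.left : Spec (CommRingCat.of Ω) ⟶ W.left).base
      (default : Spec (CommRingCat.of Ω)), ?_, h0.trans (map_zero _)⟩
    subst hw
    exact (Scheme.Hom.comp_apply _ _ _).symm
  · intro h
    obtain ⟨W, g, w, hw, h0⟩ := notMem_sectSupp.1 h
    obtain ⟨w', hw', -⟩ := EtFound.exists_lift_point g u w hw
    rw [← hw']
    refine ((Scheme.pointSmallEtale ξ).toPresheafFiber_w_apply g w' F.obj s).symm.trans ?_
    rw [show F.obj.map g.op s = 0 from h0]
    exact map_zero _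

theorem gz_germ_eq_zero_iff {F : EtCoh.Ab X} (z : Pts f η) (V : Y.Etale)
    (v : (Scheme.pointSmallEtale η).fiber.obj V) (s : ((shrF f).obj F).obj.obj (op V)) :
    gz f F z ((Scheme.pointSmallEtale η).toPresheafFiber V v ((shrF f).obj F).obj s) = 0 ↔
      ((EtFound.liftPt f z.2 v).left : Spec (CommRingCat.of Ω) ⟶ ((EtCoh.bc f).obj V).left).base
        (default : Spec (CommRingCat.of Ω)) ∉ EtShriek.sectSupp F ((EtCoh.bc f).obj V) s.1 := by
  rw [gz_germ]
  exact germ_eq_zero_iff _ _ _

lemma comp_snd_eq (V : Y.Etale) (v : (Scheme.pointSmallEtale η).fiber.obj V)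
    (l : Spec (CommRingCat.of Ω) ⟶ pullback V.hom f)
    (hl : l ≫ pullback.fst V.hom f = (v.left : Spec (CommRingCat.of Ω) ⟶ V.left)) :
    (l ≫ pullback.snd V.hom f) ≫ f = η := by
  rw [Category.assoc, ← pullback.condition, ← Category.assoc, hl]
  exact CategoryTheory.Over.w v

variable [LocallyQuasiFinite f]

/-- A germ of sections with proper support is determined by its values at the points of the fibre. -/
theorem gz_injective (F : EtCoh.Ab X) (p : (EtCoh.stalk η).obj ((shrF f).obj F))
    (h : ∀ z : Pts f η, gz f F z p = 0) : p = 0 := by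
  obtain ⟨V, v, s, rfl⟩ := (Scheme.pointSmallEtale η).toPresheafFiber_jointly_surjective p
  obtain ⟨hC, hP⟩ := (shriekPred_iff f F V s.1).1 (shriekPred_of_mem f F V s.1 s.2)
  let i := (Scheme.IdealSheafData.vanishingIdeal ⟨_, hC⟩).subschemeι
  have hP' : IsProper (i ≫ EtShriek.prV f V) := hP
  let O : V.left.Opens := ⟨(Set.range (i ≫ EtShriek.prV f V).base)ᶜ,
    (i ≫ EtShriek.prV f V).isClosedMap.isClosed_range.isOpen_compl⟩
  have hvO : (v.left : Spec (CommRingCat.of Ω) ⟶ V.left).base (default : Spec (CommRingCat.of Ω)) ∈ O := by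
    rintro ⟨t, ht⟩
    have hx : i.base t ∈ EtShriek.sectSupp F ((EtCoh.bc f).obj V) s.1 :=
      (QCoh.range_vanishing hC).le ⟨t, rfl⟩
    have : LocallyQuasiFinite (EtShriek.prV f V) := inferInstanceAs (LocallyQuasiFinite (pullback.fst V.hom f))
    obtain ⟨l, hl, hlx⟩ := exists_lift_of_locallyQuasiFinite (EtShriek.prV f V)
      (v.left : Spec (CommRingCat.of Ω) ⟶ V.left) (i.base t) ((Scheme.Hom.comp_apply _ _ _).symm.trans ht)
    have hξ : (l ≫ pullback.snd V.hom f) ≫ f = η := comp_snd_eq f V v l hl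
    refine (gz_germ_eq_zero_iff f ⟨_, hξ⟩ V v s).1 (h _) ?_
    have hl' : ((EtFound.liftPt f hξ v).left : Spec (CommRingCat.of Ω) ⟶ pullback V.hom f) = l :=
      pullback.hom_ext ((EtFound.liftPt_fst f hξ v).trans hl.symm) (CategoryTheory.Over.w (EtFound.liftPt f hξ v))
    have e := congrArg (fun m : Spec (CommRingCat.of Ω) ⟶ pullback V.hom f => m.base (default : Spec (CommRingCat.of Ω))) hl'
    exact e.symm ▸ hlx.symm ▸ hx
  obtain ⟨o, ho⟩ := exists_openι hvO
  obtain ⟨w, hw, -⟩ := EtFound.exists_lift_point (openι V O) v o ho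
  rw [← hw]
  refine ((Scheme.pointSmallEtale η).toPresheafFiber_w_apply (openι V O) w ((shrF f).obj F).obj s).symm.trans ?_
  have h0 : ((shrF f).obj F).obj.map (openι V O).op s = 0 := Subtype.ext
    (eq_zero_of_sectSupp_eq_empty _ (Set.eq_empty_iff_forall_notMem.2 fun x hx => by
      obtain ⟨t, ht⟩ := (QCoh.range_vanishing hC).ge (sectSupp_res_subset ((EtCoh.bc f).map (openι V O)) s.1 hx)
      refine openι_mem O ((EtShriek.prV f (openE V O)).base x) ⟨t, ?_⟩
      rw [Scheme.Hom.comp_apply, ht, ← Scheme.Hom.comp_apply, ← Scheme.Hom.comp_apply]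
      exact congrArg (fun m : ((EtCoh.bc f).obj (openE V O)).left ⟶ V.left => m.base x)
        (EtCoh.isPullback_bc_map f (openι V O)).w))
  rw [h0]
  exact map_zero _

/-- Only finitely many germs are nonzero. -/
theorem gz_finite [IsSeparated f] (F : EtCoh.Ab X) (p : (EtCoh.stalk η).obj ((shrF f).obj F)) :
    {z : Pts f η | gz f F z p ≠ 0}.Finite := by
  obtain ⟨V, v, s, rfl⟩ := (Scheme.pointSmallEtale η).toPresheafFiber_jointly_surjective p
  obtain ⟨hC, hP⟩ := (shriekPred_iff f F V s.1).1 (shriekPred_of_mem f F V s.1 s.2)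
  let i := (Scheme.IdealSheafData.vanishingIdeal ⟨_, hC⟩).subschemeι
  have hP' : IsProper (i ≫ EtShriek.prV f V) := hP
  have : LocallyQuasiFinite (EtShriek.prV f V) := inferInstanceAs (LocallyQuasiFinite (pullback.fst V.hom f))
  have : IsFinite (i ≫ EtShriek.prV f V) := IsFinite.of_isProper_of_locallyQuasiFinite _
  have := EtFound.finite_points (i ≫ EtShriek.prV f V) (v.left : Spec (CommRingCat.of Ω) ⟶ V.left)
  let ψ : {l : Spec (CommRingCat.of Ω) ⟶ _ // l ≫ i ≫ EtShriek.prV f V = v.left} → Pts f η := fun l =>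
    ⟨(l.1 ≫ i) ≫ pullback.snd V.hom f, comp_snd_eq f V v (l.1 ≫ i) ((Category.assoc _ _ _).trans l.2)⟩
  refine (Set.finite_range ψ).subset fun z hz => ?_
  have hx := not_not.1 (fun h => hz ((gz_germ_eq_zero_iff f z V v s).2 h))
  obtain ⟨t, ht⟩ := (QCoh.range_vanishing hC).ge hx
  obtain ⟨l, hl, -⟩ := EtFound.exists_fac_of_integral i
    ((EtFound.liftPt f z.2 v).left : Spec (CommRingCat.of Ω) ⟶ ((EtCoh.bc f).obj V).left) t ht
  refine ⟨⟨l, ?_⟩, Subtype.ext ?_⟩
  · rw [← Category.assoc, hl]
    exact EtFound.liftPt_fst f z.2 v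
  · show (l ≫ i) ≫ pullback.snd V.hom f = z.1
    rw [hl]
    exact CategoryTheory.Over.w (EtFound.liftPt f z.2 v)

end Groth.Agent.EtExcision
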