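import Groth.Agent.SiteBase.EtExcision.ShriekStalk
import Mathlib.AlgebraicGeometry.Morphisms.FlatMono

/-!
# The graph of an étale scheme over a separated étale morphism
-/

set_option autoImplicit false

universe u

open CategoryTheory CategoryTheory.Limits AlgebraicGeometry Opposite

namespace Groth.Agent.EtExcision

set_option backward.isDefEq.respectTransparency.types false

variable {U X : Scheme.{u}} (j : U ⟶ X) [AlgebraicGeometry.Etale j]

/-- The base change of an étale `U`-scheme viewed over `X`. -/
noncomputable abbrev bcExt (W : U.Etale) : U.Etale := (EtCoh.bc j).obj ((EtShriek.compEtale j).obj W)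

/-- The graph. -/
noncomputable def gr (W : U.Etale) : W ⟶ bcExt j W :=
  MorphismProperty.Over.homMk
    (pullback.lift (𝟙 W.left) W.hom (Category.id_comp (W.hom ≫ j)) : W.left ⟶ pullback (W.hom ≫ j) j)
    (pullback.lift_snd _ _ _)

lemma gr_prV (W : U.Etale) : (gr j W).left ≫ EtShriek.prV j ((EtShriek.compEtale j).obj W) = 𝟙 _ :=
  pullback.lift_fst _ _ _

variable [IsSeparated j]

instance isClosedImmersion_gr (W : U.Etale) : IsClosedImmersion (gr j W).left := by
  have : IsSeparated (EtShriek.prV j ((EtShriek.compEtale j).obj W)) :=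
    inferInstanceAs (IsSeparated (pullback.fst (W.hom ≫ j) j))
  have : IsClosedImmersion ((gr j W).left ≫ EtShriek.prV j ((EtShriek.compEtale j).obj W)) := by
    rw [gr_prV]; exact inferInstanceAs (IsClosedImmersion (𝟙 W.left))
  exact IsClosedImmersion.of_comp (gr j W).left (EtShriek.prV j ((EtShriek.compEtale j).obj W))

instance isOpenImmersion_gr (W : U.Etale) : IsOpenImmersion (gr j W).left := by
  have := EtFound.etale_left (gr j W)
  have : Mono (gr j W).left := inferInstance
  exact IsOpenImmersion.of_flat_of_mono _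

/-- The graph as a closed subset. -/
def grSet (W : U.Etale) : Set (bcExt j W).left := Set.range (gr j W).left.base

lemma isClosed_grSet (W : U.Etale) : IsClosed (grSet j W) :=
  (gr j W).left.isClosedEmbedding.isClosed_range

omit [IsSeparated j] in
lemma preimage_grSet (W : U.Etale) : (gr j W).left.base ⁻¹' grSet j W = Set.univ :=
  Set.preimage_range _

lemma bijOn_gr (W : U.Etale) :
    Set.BijOn (gr j W).left.base ((gr j W).left.base ⁻¹' grSet j W) (grSet j W) := by
  rw [preimage_grSet]
  refine ⟨fun x _ => ⟨x, rfl⟩, (gr j W).left.isClosedEmbedding.injective.injOn, ?_⟩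
  rintro y ⟨x, rfl⟩
  exact ⟨x, trivial, rfl⟩

theorem exists_grSect (F : EtCoh.Ab U) (W : U.Etale) (s : EtCoh.sect F W) :
    ∃ t : EtCoh.sect F (bcExt j W),
      EtShriek.sectSupp F (bcExt j W) t ⊆ grSet j W ∧ res F (gr j W) t = s :=
  exists_extension (bijOn_gr j W)
    (fun x _ => ConcreteCategory.bijective_of_isIso ((gr j W).left.residueFieldMap x)) (isClosed_grSet j W) s
    (by rw [preimage_grSet]; exact Set.subset_univ _)

theorem grSect_unique (F : EtCoh.Ab U) (W : U.Etale) {s t : EtCoh.sect F (bcExt j W)}
    (hs : EtShriek.sectSupp F (bcExt j W) s ⊆ grSet j W)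
    (ht : EtShriek.sectSupp F (bcExt j W) t ⊆ grSet j W)
    (h : res F (gr j W) s = res F (gr j W) t) : s = t :=
  eq_of_res_eq (bijOn_gr j W) (isClosed_grSet j W) s t hs ht h

/-- The extension by zero of a section from the graph. -/
noncomputable def grSect (F : EtCoh.Ab U) (W : U.Etale) (s : EtCoh.sect F W) : EtCoh.sect F (bcExt j W) :=
  (exists_grSect j F W s).choose

lemma sectSupp_grSect (F : EtCoh.Ab U) (W : U.Etale) (s : EtCoh.sect F W) :
    EtShriek.sectSupp F (bcExt j W) (grSect j F W s) ⊆ grSet j W :=
  (exists_grSect j F W s).choose_spec.1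

lemma res_grSect (F : EtCoh.Ab U) (W : U.Etale) (s : EtCoh.sect F W) :
    res F (gr j W) (grSect j F W s) = s :=
  (exists_grSect j F W s).choose_spec.2

lemma shriekPred_grSect (F : EtCoh.Ab U) (W : U.Etale) (s : EtCoh.sect F W) :
    EtShriek.ShriekPred j F ((EtShriek.compEtale j).obj W) (grSect j F W s) := by
  rw [shriekPred_iff]
  have : IsProper ((gr j W).left ≫ EtShriek.prV j ((EtShriek.compEtale j).obj W)) := by
    rw [gr_prV]; exact inferInstanceAs (IsProper (𝟙 W.left))
  exact QCoh.isProperOver_of_subset (f := EtShriek.prV j ((EtShriek.compEtale j).obj W)) (gr j W).left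
    (isClosed_sectSupp _) (sectSupp_grSect j F W s)

lemma grSect_add (F : EtCoh.Ab U) (W : U.Etale) (s t : EtCoh.sect F W) :
    grSect j F W (s + t) = grSect j F W s + grSect j F W t := by
  refine grSect_unique j F W (sectSupp_grSect j F W _)
    ((sectSupp_add _ _).trans (Set.union_subset (sectSupp_grSect j F W s) (sectSupp_grSect j F W t))) ?_
  rw [res_grSect]
  refine ((map_add (F.obj.map (gr j W).op).hom (grSect j F W s) (grSect j F W t)).trans ?_).symm
  exact congrArg₂ (· + ·) (res_grSect j F W s) (res_grSect j F W t)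

omit [IsSeparated j] in
/-- The graph is compatible with morphisms. -/
lemma gr_naturality {W W' : U.Etale} (g : W' ⟶ W) :
    g ≫ gr j W = gr j W' ≫ (EtCoh.bc j).map ((EtShriek.compEtale j).map g) := by
  refine hom_ext (pullback.hom_ext ?_ ?_)
  · refine (Category.assoc _ _ _).trans ((congrArg (g.left ≫ ·) (gr_prV j W)).trans ?_)
    refine (Category.comp_id _).trans ?_
    refine Eq.symm ((Category.assoc _ _ _).trans
      ((congrArg (_ ≫ ·) (EtCoh.isPullback_bc_map j ((EtShriek.compEtale j).map g)).w).trans ?_))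
    exact (Category.assoc _ _ _).symm.trans ((congrArg (· ≫ _) (gr_prV j W')).trans (Category.id_comp _))
  · exact (MorphismProperty.Over.w (g ≫ gr j W)).trans
      (MorphismProperty.Over.w (gr j W' ≫ (EtCoh.bc j).map ((EtShriek.compEtale j).map g))).symm

omit [IsSeparated j] in
lemma preimage_grSet_bc {W W' : U.Etale} (g : W' ⟶ W) :
    ((EtCoh.bc j).map ((EtShriek.compEtale j).map g)).left.base ⁻¹' grSet j W ⊆ grSet j W' := by
  have sq := EtCoh.isPullback_bc_map j ((EtShriek.compEtale j).map g)
  have hsq : IsPullback g.left (gr j W').left (gr j W).left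
      ((EtCoh.bc j).map ((EtShriek.compEtale j).map g)).left := by
    refine IsPullback.of_bot (v₂₁ := EtShriek.prV j ((EtShriek.compEtale j).obj W'))
      (v₂₂ := EtShriek.prV j ((EtShriek.compEtale j).obj W)) (h₃₁ := g.left) ?_
      (congrArg (fun m : W' ⟶ bcExt j W => m.left) (gr_naturality j g)) sq
    convert IsPullback.id_vert g.left using 1
    · exact gr_prV j W'
    · exact gr_prV j W
  intro x hx
  obtain ⟨y, hy⟩ := hx
  obtain ⟨z, -, hz⟩ := Scheme.Pullback.exists_preimage_pullback (f := (gr j W).left)
    (g := ((EtCoh.bc j).map ((EtShriek.compEtale j).map g)).left) y x hy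
  refine ⟨hsq.isoPullback.inv.base z, ?_⟩
  rw [← Scheme.Hom.comp_apply, hsq.isoPullback_inv_snd]
  exact hz

lemma grSect_res (F : EtCoh.Ab U) {W W' : U.Etale} (g : W' ⟶ W) (s : EtCoh.sect F W) :
    res F ((EtCoh.bc j).map ((EtShriek.compEtale j).map g)) (grSect j F W s) = grSect j F W' (res F g s) := by
  refine grSect_unique j F W' ((sectSupp_res_subset _ _).trans
    ((Set.preimage_mono (sectSupp_grSect j F W s)).trans (preimage_grSet_bc j g))) (sectSupp_grSect j F W' _) ?_
  rw [res_res, ← gr_naturality, ← res_res, res_grSect, res_grSect]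

lemma grSect_map {F G : EtCoh.Ab U} (a : F ⟶ G) (W : U.Etale) (s : EtCoh.sect F W) :
    a.hom.app (op (bcExt j W)) (grSect j F W s) = grSect j G W (a.hom.app (op W) s) := by
  refine grSect_unique j G W ((EtShriek.sectSupp_map_subset a _ _).trans (sectSupp_grSect j F W s))
    (sectSupp_grSect j G W _) ?_
  rw [res_grSect]
  exact ((ConcreteCategory.congr_hom (a.hom.naturality (gr j W).op) (grSect j F W s)).symm).trans
    (congrArg (fun r => a.hom.app (op W) r) (res_grSect j F W s))

end Groth.Agent.EtExcision
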