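import Groth.Agent.SiteBase.EtExcision.Main
import Mathlib.AlgebraicGeometry.Morphisms.UniversallyOpen

/-!
# Supports of sections: closedness, sums, restrictions
-/

set_option autoImplicit false

universe u

open CategoryTheory CategoryTheory.Limits AlgebraicGeometry Opposite

namespace Groth.Agent.EtExcision

variable {X : Scheme.{u}} {F : EtCoh.Ab X} {U U' : X.Etale}

lemma notMem_sectSupp {s : EtCoh.sect F U} {x : U.left} :
    x ∉ EtShriek.sectSupp F U s ↔
      ∃ (W : X.Etale) (g : W ⟶ U) (w : W.left), g.left.base w = x ∧ res F g s = 0 := by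
  constructor
  · intro h
    simp only [EtShriek.sectSupp, Set.mem_ofPred_eq, not_forall] at h
    obtain ⟨W, g, ⟨w, hw⟩, h0⟩ := h
    exact ⟨W, g, w, hw, not_not.1 h0⟩
  · rintro ⟨W, g, w, hw, h0⟩ h
    exact h W g ⟨w, hw⟩ h0

theorem isClosed_sectSupp (s : EtCoh.sect F U) : IsClosed (EtShriek.sectSupp F U s) := by
  refine ⟨isOpen_iff_forall_mem_open.2 fun x hx => ?_⟩
  obtain ⟨W, g, w, hw, h0⟩ := notMem_sectSupp.1 hx
  have := EtFound.etale_left g
  exact ⟨Set.range g.left.base, fun y ⟨z, hz⟩ => notMem_sectSupp.2 ⟨W, g, z, hz, h0⟩,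
    g.left.isOpenMap.isOpen_range, ⟨w, hw⟩⟩

theorem sectSupp_res (φ : U' ⟶ U) (s : EtCoh.sect F U) :
    EtShriek.sectSupp F U' (res F φ s) = φ.left.base ⁻¹' EtShriek.sectSupp F U s := by
  refine (sectSupp_res_subset φ s).antisymm fun x hx => ?_
  by_contra h
  obtain ⟨W, g, w, hw, h0⟩ := notMem_sectSupp.1 h
  refine notMem_sectSupp.2 ⟨W, g ≫ φ, w, ?_, ?_⟩ hx
  · rw [comp_left_apply, hw]
  · rw [← res_res, h0]

theorem sectSupp_zero : EtShriek.sectSupp F U 0 = ∅ :=
  Set.eq_empty_iff_forall_notMem.2 fun x =>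
    notMem_sectSupp.2 ⟨U, 𝟙 U, x, rfl, map_zero (F.obj.map (𝟙 U).op).hom⟩

theorem sectSupp_neg (s : EtCoh.sect F U) :
    EtShriek.sectSupp F U (-s) = EtShriek.sectSupp F U s := by
  have key : ∀ t : EtCoh.sect F U, EtShriek.sectSupp F U (-t) ⊆ EtShriek.sectSupp F U t := fun t x hx => by
    by_contra h
    obtain ⟨W, g, w, hw, h0⟩ := notMem_sectSupp.1 h
    exact notMem_sectSupp.2 ⟨W, g, w, hw, (map_neg (F.obj.map g.op).hom t).trans (neg_eq_zero.2 h0)⟩ hx
  exact (key s).antisymm (by simpa using key (-s))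

theorem sectSupp_add (s t : EtCoh.sect F U) :
    EtShriek.sectSupp F U (s + t) ⊆ EtShriek.sectSupp F U s ∪ EtShriek.sectSupp F U t := by
  intro x hx
  by_contra h
  simp only [Set.mem_union, not_or] at h
  obtain ⟨W, g, w, hw, hs⟩ := notMem_sectSupp.1 h.1
  obtain ⟨W', g', w', hw', ht⟩ := notMem_sectSupp.1 h.2
  obtain ⟨P, p, q, z, hz, e⟩ := exists_pullback_nbhd g g' w w' (hw.trans hw'.symm)
  refine notMem_sectSupp.2 ⟨P, p ≫ g, z, by rw [comp_left_apply, hz, hw], ?_⟩ hx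
  refine (map_add (F.obj.map (p ≫ g).op).hom s t).trans ?_
  show res F (p ≫ g) s + res F (p ≫ g) t = 0
  rw [← res_res, hs, e, ← res_res, ht]
  exact (congrArg₂ (· + ·) (map_zero (F.obj.map p.op).hom) (map_zero (F.obj.map q.op).hom)).trans (add_zero _)

end Groth.Agent.EtExcision
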