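import Groth.Prelude.Def_EtTens2
import Groth.Agent.EtFound.Basic
import Mathlib.CategoryTheory.Sites.Point.Skyscraper
import Mathlib.CategoryTheory.Filtered.Basic

/-!
# Germs of tensor products of presheaves
-/

set_option autoImplicit false

universe u

open CategoryTheory CategoryTheory.Limits AlgebraicGeometry Opposite TensorProduct

namespace Groth.Agent.EtExcision

set_option backward.isDefEq.respectTransparency.types false

variable {X : Scheme.{u}} {Ω : Type u} [Field Ω] [IsSepClosed Ω] (ξ : Spec (CommRingCat.of Ω) ⟶ X)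
  (A B : X.Etaleᵒᵖ ⥤ AddCommGrpCat.{u + 1})

local notation "Φ" => Scheme.pointSmallEtale ξ

/-- Germs of a presheaf. -/
noncomputable abbrev fib (P : X.Etaleᵒᵖ ⥤ AddCommGrpCat.{u + 1}) : AddCommGrpCat.{u + 1} :=
  ((Φ).presheafFiber (A := AddCommGrpCat.{u + 1})).obj P

/-- The germ of a pair. -/
noncomputable def tGerm (W : X.Etale) (w : (Φ).fiber.obj W) (a : A.obj (op W)) (b : B.obj (op W)) :
    (fib ξ (EtTens.tensorObj A B)) :=
  (Φ).toPresheafFiber W w (EtTens.tensorObj A B) (a ⊗ₜ[ℤ] b)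

lemma tGerm_map {W W' : X.Etale} (g : W' ⟶ W) (w : (Φ).fiber.obj W) (w' : (Φ).fiber.obj W')
    (hw : (Φ).fiber.map g w' = w) (a : A.obj (op W)) (b : B.obj (op W)) :
    tGerm ξ A B W' w' (A.map g.op a) (B.map g.op b) = tGerm ξ A B W w a b := by
  subst hw
  exact (congrArg ((Φ).toPresheafFiber W' w' (EtTens.tensorObj A B))
    (EtTens.tensorObj_map_tmul A B g.op a b).symm).trans
      ((Φ).toPresheafFiber_w_apply g w' (EtTens.tensorObj A B) (a ⊗ₜ[ℤ] b))

theorem tGerm_refine {U V W W' : X.Etale} {x : (Φ).fiber.obj U} {y : (Φ).fiber.obj V}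
    {w : (Φ).fiber.obj W} {w' : (Φ).fiber.obj W'} (g : W ⟶ U) (h : W ⟶ V) (g' : W' ⟶ U) (h' : W' ⟶ V)
    (hg : (Φ).fiber.map g w = x) (hh : (Φ).fiber.map h w = y) (hg' : (Φ).fiber.map g' w' = x)
    (hh' : (Φ).fiber.map h' w' = y) (a : A.obj (op U)) (b : B.obj (op V)) :
    tGerm ξ A B W w (A.map g.op a) (B.map h.op b) = tGerm ξ A B W' w' (A.map g'.op a) (B.map h'.op b) := by
  let e : (Φ).fiber.Elements := ⟨W, w⟩
  let e' : (Φ).fiber.Elements := ⟨W', w'⟩
  let u : e ⟶ ⟨U, x⟩ := CategoryOfElements.homMk _ _ g hg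
  let v : e ⟶ ⟨V, y⟩ := CategoryOfElements.homMk _ _ h hh
  let u' : e' ⟶ ⟨U, x⟩ := CategoryOfElements.homMk _ _ g' hg'
  let v' : e' ⟶ ⟨V, y⟩ := CategoryOfElements.homMk _ _ h' hh'
  let m : (Φ).fiber.Elements := IsCofiltered.min e e'
  let l : m ⟶ e := IsCofiltered.minToLeft e e'
  let r : m ⟶ e' := IsCofiltered.minToRight e e'
  let k₁ := IsCofiltered.eqHom (l ≫ u) (r ≫ u')
  let k₂ := IsCofiltered.eqHom (k₁ ≫ l ≫ v) (k₁ ≫ r ≫ v')
  let p : _ ⟶ e := (k₂ ≫ k₁) ≫ l
  let q : _ ⟶ e' := (k₂ ≫ k₁) ≫ r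
  have h1 : p ≫ u = q ≫ u' := by
    simp only [p, q, Category.assoc, k₁, IsCofiltered.eq_condition (l ≫ u) (r ≫ u')]
  have h2 : p ≫ v = q ≫ v' := by
    simp only [p, q, Category.assoc, k₂, IsCofiltered.eq_condition (k₁ ≫ l ≫ v) (k₁ ≫ r ≫ v')]
  have a1 : A.map p.1.op (A.map g.op a) = A.map q.1.op (A.map g'.op a) := by
    rw [← ConcreteCategory.comp_apply, ← ConcreteCategory.comp_apply, ← A.map_comp, ← A.map_comp,
      ← op_comp, ← op_comp]
    exact congrArg (fun m : _ ⟶ U => A.map m.op a) (congrArg Subtype.val h1)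
  have b1 : B.map p.1.op (B.map h.op b) = B.map q.1.op (B.map h'.op b) := by
    rw [← ConcreteCategory.comp_apply, ← ConcreteCategory.comp_apply, ← B.map_comp, ← B.map_comp,
      ← op_comp, ← op_comp]
    exact congrArg (fun m : _ ⟶ V => B.map m.op b) (congrArg Subtype.val h2)
  rw [← tGerm_map ξ A B p.1 w _ p.2, ← tGerm_map ξ A B q.1 w' _ q.2, a1, b1]

theorem exists_refine {U V : X.Etale} (x : (Φ).fiber.obj U) (y : (Φ).fiber.obj V) :
    ∃ (W : X.Etale) (g : W ⟶ U) (h : W ⟶ V) (w : (Φ).fiber.obj W),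
      (Φ).fiber.map g w = x ∧ (Φ).fiber.map h w = y :=
  let e : (Φ).fiber.Elements := ⟨U, x⟩
  let e' : (Φ).fiber.Elements := ⟨V, y⟩
  ⟨(IsCofiltered.min e e').1, (IsCofiltered.minToLeft e e').1, (IsCofiltered.minToRight e e').1,
    (IsCofiltered.min e e').2, (IsCofiltered.minToLeft e e').2, (IsCofiltered.minToRight e e').2⟩

/-- The product of two germs. -/
noncomputable def tMul {U V : X.Etale} (x : (Φ).fiber.obj U) (y : (Φ).fiber.obj V) (a : A.obj (op U))
    (b : B.obj (op V)) : (fib ξ (EtTens.tensorObj A B)) :=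
  tGerm ξ A B _ (exists_refine ξ x y).choose_spec.choose_spec.choose_spec.choose
    (A.map (exists_refine ξ x y).choose_spec.choose.op a)
    (B.map (exists_refine ξ x y).choose_spec.choose_spec.choose.op b)

theorem tMul_eq {U V W : X.Etale} {x : (Φ).fiber.obj U} {y : (Φ).fiber.obj V} {w : (Φ).fiber.obj W}
    (g : W ⟶ U) (h : W ⟶ V) (hg : (Φ).fiber.map g w = x) (hh : (Φ).fiber.map h w = y)
    (a : A.obj (op U)) (b : B.obj (op V)) :
    tMul ξ A B x y a b = tGerm ξ A B W w (A.map g.op a) (B.map h.op b) :=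
  tGerm_refine ξ A B _ _ g h (exists_refine ξ x y).choose_spec.choose_spec.choose_spec.choose_spec.1
    (exists_refine ξ x y).choose_spec.choose_spec.choose_spec.choose_spec.2 hg hh a b

theorem tMul_self {U : X.Etale} (x : (Φ).fiber.obj U) (a : A.obj (op U)) (b : B.obj (op U)) :
    tMul ξ A B x x a b = tGerm ξ A B U x a b := by
  have h : (Φ).fiber.map (𝟙 U) x = x := by rw [CategoryTheory.Functor.map_id]; rfl
  rw [tMul_eq ξ A B (𝟙 U) (𝟙 U) h h, op_id, A.map_id, B.map_id]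
  rfl

lemma tGerm_add_left {W : X.Etale} (w : (Φ).fiber.obj W) (a a' : A.obj (op W)) (b : B.obj (op W)) :
    tGerm ξ A B W w (a + a') b = tGerm ξ A B W w a b + tGerm ξ A B W w a' b :=
  (congrArg ((Φ).toPresheafFiber W w (EtTens.tensorObj A B)) (TensorProduct.add_tmul a a' b)).trans
    (map_add ((Φ).toPresheafFiber W w (EtTens.tensorObj A B)).hom (a ⊗ₜ[ℤ] b) (a' ⊗ₜ[ℤ] b))

lemma tGerm_add_right {W : X.Etale} (w : (Φ).fiber.obj W) (a : A.obj (op W)) (b b' : B.obj (op W)) :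
    tGerm ξ A B W w a (b + b') = tGerm ξ A B W w a b + tGerm ξ A B W w a b' :=
  (congrArg ((Φ).toPresheafFiber W w (EtTens.tensorObj A B)) (TensorProduct.tmul_add a b b')).trans
    (map_add ((Φ).toPresheafFiber W w (EtTens.tensorObj A B)).hom (a ⊗ₜ[ℤ] b) (a ⊗ₜ[ℤ] b'))

lemma tMul_add_left {U V : X.Etale} (x : (Φ).fiber.obj U) (y : (Φ).fiber.obj V) (a a' : A.obj (op U))
    (b : B.obj (op V)) : tMul ξ A B x y (a + a') b = tMul ξ A B x y a b + tMul ξ A B x y a' b := by
  rw [tMul, map_add, tGerm_add_left]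
  rfl

lemma tMul_add_right {U V : X.Etale} (x : (Φ).fiber.obj U) (y : (Φ).fiber.obj V) (a : A.obj (op U))
    (b b' : B.obj (op V)) : tMul ξ A B x y a (b + b') = tMul ξ A B x y a b + tMul ξ A B x y a b' := by
  rw [tMul, map_add, tGerm_add_right]
  rfl

lemma tMul_map_right {U V V' : X.Etale} (x : (Φ).fiber.obj U) (f : V' ⟶ V) (y' : (Φ).fiber.obj V')
    (a : A.obj (op U)) (b : B.obj (op V)) :
    tMul ξ A B x y' a (B.map f.op b) = tMul ξ A B x ((Φ).fiber.map f y') a b := by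
  obtain ⟨W, g, h, w, hg, hh⟩ := exists_refine ξ x y'
  rw [tMul_eq ξ A B g h hg hh, tMul_eq ξ A B g (h ≫ f) hg (by rw [Functor.map_comp, ConcreteCategory.comp_apply, hh]),
    op_comp, Functor.map_comp, ConcreteCategory.comp_apply]

lemma tMul_map_left {U U' V : X.Etale} (f : U' ⟶ U) (x' : (Φ).fiber.obj U') (y : (Φ).fiber.obj V)
    (a : A.obj (op U)) (b : B.obj (op V)) :
    tMul ξ A B x' y (A.map f.op a) b = tMul ξ A B ((Φ).fiber.map f x') y a b := by
  obtain ⟨W, g, h, w, hg, hh⟩ := exists_refine ξ x' y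
  rw [tMul_eq ξ A B g h hg hh, tMul_eq ξ A B (g ≫ f) h (by rw [Functor.map_comp, ConcreteCategory.comp_apply, hg]) hh,
    op_comp, Functor.map_comp, ConcreteCategory.comp_apply]

/-- Multiplication with a fixed germ. -/
noncomputable def tMulHom {U : X.Etale} (x : (Φ).fiber.obj U) (a : A.obj (op U)) :
    (fib ξ B) ⟶ (fib ξ (EtTens.tensorObj A B)) :=
  (Φ).presheafFiberDesc
    (fun _ y => AddCommGrpCat.ofHom (AddMonoidHom.mk' (tMul ξ A B x y a) (tMul_add_right ξ A B x y a)))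
    (fun {V' V} f y => ConcreteCategory.hom_ext _ _ fun b => tMul_map_right ξ A B x f y a b)

lemma tMulHom_germ {U V : X.Etale} (x : (Φ).fiber.obj U) (a : A.obj (op U)) (y : (Φ).fiber.obj V)
    (b : B.obj (op V)) : tMulHom ξ A B x a ((Φ).toPresheafFiber V y B b) = tMul ξ A B x y a b :=
  ConcreteCategory.congr_hom (GrothendieckTopology.Point.toPresheafFiber_presheafFiberDesc _ _ _ V y) b

/-- Multiplication with a varying germ. -/
noncomputable def tMulLin {U : X.Etale} (x : (Φ).fiber.obj U) :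
    A.obj (op U) →+ ((fib ξ B) →+ (fib ξ (EtTens.tensorObj A B))) :=
  AddMonoidHom.mk' (fun a => (tMulHom ξ A B x a).hom) fun a a' => AddMonoidHom.ext fun q => by
    obtain ⟨V, y, b, rfl⟩ := (Φ).toPresheafFiber_jointly_surjective q
    show tMulHom ξ A B x (a + a') _ = tMulHom ξ A B x a _ + tMulHom ξ A B x a' _
    rw [tMulHom_germ, tMulHom_germ, tMulHom_germ, tMul_add_left]

/-- The product on germs. -/
noncomputable def tBil : (fib ξ A) ⟶
    AddCommGrpCat.of ((fib ξ B) →+ (fib ξ (EtTens.tensorObj A B))) :=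
  (Φ).presheafFiberDesc (fun _ x => AddCommGrpCat.ofHom (tMulLin ξ A B x))
    (fun {U' U} f x => ConcreteCategory.hom_ext _ _ fun a => AddMonoidHom.ext fun q => by
      obtain ⟨V, y, b, rfl⟩ := (Φ).toPresheafFiber_jointly_surjective q
      show tMulHom ξ A B x (A.map f.op a) _ = tMulHom ξ A B _ a _
      rw [tMulHom_germ, tMulHom_germ, tMul_map_left])

lemma tBil_germ {U : X.Etale} (x : (Φ).fiber.obj U) (a : A.obj (op U)) :
    (tBil ξ A B).hom ((Φ).toPresheafFiber U x A a) = tMulLin ξ A B x a :=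
  ConcreteCategory.congr_hom (GrothendieckTopology.Point.toPresheafFiber_presheafFiberDesc _ _ _ U x) a

/-- Products of germs. -/
noncomputable def tPair :
    (fib ξ A) ⊗[ℤ] (fib ξ B) →+ (fib ξ (EtTens.tensorObj A B)) :=
  TensorProduct.liftAddHom (tBil ξ A B).hom fun n p q => by
    rw [map_zsmul, map_zsmul]
    rfl

lemma tPair_germ {U : X.Etale} (x : (Φ).fiber.obj U) (a : A.obj (op U)) (b : B.obj (op U)) :
    tPair ξ A B ((Φ).toPresheafFiber U x A a ⊗ₜ[ℤ] (Φ).toPresheafFiber U x B b) =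
      (Φ).toPresheafFiber U x (EtTens.tensorObj A B) (a ⊗ₜ[ℤ] b) := by
  rw [tPair, TensorProduct.liftAddHom_tmul]
  refine (DFunLike.congr_fun (tBil_germ ξ A B x a) _).trans ?_
  exact (tMulHom_germ ξ A B x a x b).trans (tMul_self ξ A B x a b)

/-- The comparison of a germ of a tensor product. -/
noncomputable def tSplit :
    (fib ξ (EtTens.tensorObj A B)) ⟶
      AddCommGrpCat.of ((fib ξ A) ⊗[ℤ] (fib ξ B)) :=
  (Φ).presheafFiberDesc
    (fun U x => AddCommGrpCat.ofHom (TensorProduct.map ((Φ).toPresheafFiber U x A).hom.toIntLinearMap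
      ((Φ).toPresheafFiber U x B).hom.toIntLinearMap).toAddMonoidHom)
    (fun {U' U} f x => EtTens.hom_ext_tmul fun a b =>
      congrArg₂ (fun p q => p ⊗ₜ[ℤ] q) ((Φ).toPresheafFiber_w_apply f x A a) ((Φ).toPresheafFiber_w_apply f x B b))

lemma tSplit_hom {U : X.Etale} (x : (Φ).fiber.obj U) :
    (Φ).toPresheafFiber U x (EtTens.tensorObj A B) ≫ tSplit ξ A B =
      AddCommGrpCat.ofHom (TensorProduct.map ((Φ).toPresheafFiber U x A).hom.toIntLinearMap
        ((Φ).toPresheafFiber U x B).hom.toIntLinearMap).toAddMonoidHom := by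
  exact GrothendieckTopology.Point.toPresheafFiber_presheafFiberDesc _ _ _ U x

lemma tSplit_germ {U : X.Etale} (x : (Φ).fiber.obj U) (a : A.obj (op U)) (b : B.obj (op U)) :
    tSplit ξ A B ((Φ).toPresheafFiber U x (EtTens.tensorObj A B) (a ⊗ₜ[ℤ] b)) =
      (Φ).toPresheafFiber U x A a ⊗ₜ[ℤ] (Φ).toPresheafFiber U x B b := by
  refine (ConcreteCategory.comp_apply _ _ _).symm.trans ?_
  rw [tSplit_hom]
  rfl

theorem tSplit_tPair : tSplit ξ A B ≫ AddCommGrpCat.ofHom (tPair ξ A B) = 𝟙 _ :=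
  (Φ).presheafFiber_hom_ext fun U x => EtTens.hom_ext_tmul fun a b =>
    (congrArg (tPair ξ A B) (tSplit_germ ξ A B x a b)).trans (tPair_germ ξ A B x a b)

/-- Germs of a tensor product are tensor products of germs. -/
noncomputable def tGermEquiv :
    (fib ξ A) ⊗[ℤ] (fib ξ B) ≃+ (fib ξ (EtTens.tensorObj A B)) :=
  { tPair ξ A B with
    invFun := tSplit ξ A B
    left_inv := fun t => by
      show tSplit ξ A B (tPair ξ A B t) = t
      induction t using TensorProduct.induction_on with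
      | zero => simp only [map_zero]
      | add p q hp hq => simp only [map_add, hp, hq]
      | tmul p q =>
        obtain ⟨U, x, a, rfl⟩ := (Φ).toPresheafFiber_jointly_surjective p
        obtain ⟨V, y, b, rfl⟩ := (Φ).toPresheafFiber_jointly_surjective q
        obtain ⟨W, g, h, w, rfl, rfl⟩ := exists_refine ξ x y
        rw [← (Φ).toPresheafFiber_w_apply g w A a, ← (Φ).toPresheafFiber_w_apply h w B b, tPair_germ, tSplit_germ]
    right_inv := fun p => ConcreteCategory.congr_hom (tSplit_tPair ξ A B) p }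

end Groth.Agent.EtExcision
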