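import Groth.Prelude.Def_EtShriek2
import Groth.Agent.EtFound.Basic
import Mathlib.AlgebraicGeometry.Morphisms.FormallyUnramified
import Mathlib.AlgebraicGeometry.PullbackCarrier

/-!
# Tools for sections of étale sheaves: open pieces, agreement on open sets
-/

set_option autoImplicit false

universe u

open CategoryTheory CategoryTheory.Limits AlgebraicGeometry Opposite

namespace Groth.Agent.EtExcision

variable {X : Scheme.{u}}

/-- Restriction of sections. -/
abbrev res (F : EtCoh.Ab X) {U V : X.Etale} (g : V ⟶ U) (s : EtCoh.sect F U) : EtCoh.sect F V :=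
  F.obj.map g.op s

lemma res_res (F : EtCoh.Ab X) {U V W : X.Etale} (g : W ⟶ V) (h : V ⟶ U) (s : EtCoh.sect F U) :
    res F g (res F h s) = res F (g ≫ h) s :=
  (ConcreteCategory.congr_hom (F.obj.map_comp h.op g.op) s).symm

lemma res_id (F : EtCoh.Ab X) {U : X.Etale} (s : EtCoh.sect F U) : res F (𝟙 U) s = s :=
  ConcreteCategory.congr_hom (F.obj.map_id (op U)) s

lemma comp_left_apply {U V W : X.Etale} (g : W ⟶ V) (h : V ⟶ U) (w : W.left) :
    (g ≫ h).left.base w = h.left.base (g.left.base w) := rfl

/-- Sections are determined near points. -/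
theorem eq_of_nbhds (F : EtCoh.Ab X) {U : X.Etale} {s t : EtCoh.sect F U}
    (h : ∀ x : U.left, ∃ (V : X.Etale) (g : V ⟶ U) (v : V.left), g.left.base v = x ∧ res F g s = res F g t) :
    s = t := by
  let S : Sieve U :=
    { arrows := fun V g => res F g s = res F g t
      downward_closed := fun {V W g} hg k => by
        show res F (k ≫ g) s = res F (k ≫ g) t
        rw [← res_res, ← res_res, hg] }
  have hS : S ∈ X.smallEtaleTopology U := (EtFound.mem_topology_iff S).2 fun x => by
    obtain ⟨V, g, v, hv, hg⟩ := h x
    exact ⟨V, g, v, hg, hv⟩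
  have hs := (isSheaf_iff_isSheaf_of_type _ _).1
    ((Presheaf.isSheaf_iff_isSheaf_forget _ F.obj (CategoryTheory.forget AddCommGrpCat.{u + 1})).1 F.property)
  exact ((hs S hS).isSeparatedFor).ext fun V g hg => hg

variable (U : X.Etale)

/-- An open piece of an étale scheme. -/
noncomputable def openE (O : U.left.Opens) : X.Etale :=
  MorphismProperty.Over.mk ⊤ (O.ι ≫ U.hom) (by
    have := U.prop
    exact EtCoh.etaleMP.comp_mem _ _ (inferInstanceAs (AlgebraicGeometry.Etale O.ι)) U.prop)

/-- The inclusion of an open piece. -/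
noncomputable def openι (O : U.left.Opens) : openE U O ⟶ U :=
  MorphismProperty.Over.homMk O.ι rfl

variable {U}

lemma openι_left (O : U.left.Opens) : (openι U O).left = O.ι := rfl

lemma exists_openι {O : U.left.Opens} {x : U.left} (hx : x ∈ O) :
    ∃ v : (openE U O).left, (openι U O).left.base v = x :=
  ⟨⟨x, hx⟩, rfl⟩

lemma openι_mem (O : U.left.Opens) (v : (openE U O).left) : (openι U O).left.base v ∈ O := v.2

lemma hom_ext {V : X.Etale} {f g : V ⟶ U} (h : f.left = g.left) : f = g :=
  MorphismProperty.Over.Hom.ext h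

/-- A point over two points with the same image. -/
theorem exists_pullback_nbhd {W V : X.Etale} (a : W ⟶ U) (g : V ⟶ U) (w : W.left) (v : V.left)
    (h : a.left.base w = g.left.base v) :
    ∃ (P : X.Etale) (p : P ⟶ W) (q : P ⟶ V) (z : P.left), p.left.base z = w ∧ p ≫ a = q ≫ g := by
  have := EtFound.etale_left g
  let p : pullback a.left g.left ⟶ W.left := pullback.fst a.left g.left
  have hp : AlgebraicGeometry.Etale p := MorphismProperty.pullback_fst _ _ (EtFound.etale_left g)
  let P : X.Etale := MorphismProperty.Over.mk ⊤ (p ≫ W.hom) (EtCoh.etaleMP.comp_mem _ _ hp W.prop)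
  obtain ⟨z, hz, -⟩ := Scheme.Pullback.exists_preimage_pullback w v h
  refine ⟨P, MorphismProperty.Over.homMk p rfl, MorphismProperty.Over.homMk (pullback.snd a.left g.left) ?_, z, hz,
    hom_ext pullback.condition⟩
  show pullback.snd a.left g.left ≫ V.hom = p ≫ W.hom
  rw [← MorphismProperty.Over.w a, ← MorphismProperty.Over.w g, pullback.condition_assoc]

/-- Two points with values in a field, agreeing after a map inducing an isomorphism on residue fields. -/
theorem eq_of_comp_eq {Y Z : Scheme.{u}} (f : Y ⟶ Z) {K : Type u} [Field K]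
    (p q : Spec (CommRingCat.of K) ⟶ Y) (h : p ≫ f = q ≫ f)
    (hx : p.base (IsLocalRing.closedPoint K) = q.base (IsLocalRing.closedPoint K))
    (hbij : ∀ y, y = p.base (IsLocalRing.closedPoint K) → Function.Bijective (f.residueFieldMap y)) : p = q := by
  obtain ⟨⟨y, α⟩, rfl⟩ := (Scheme.SpecToEquivOfField K Y).symm.surjective p
  obtain ⟨⟨y', β⟩, rfl⟩ := (Scheme.SpecToEquivOfField K Y).symm.surjective q
  simp only [Scheme.SpecToEquivOfField_symm_apply, Scheme.Hom.comp_base, TopCat.coe_comp, Function.comp_apply,
    Scheme.fromSpecResidueField_apply] at hx h hbij ⊢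
  subst hx
  have hb : Function.Bijective (f.residueFieldMap y) := hbij y rfl
  have hi : IsIso (f.residueFieldMap y) := (ConcreteCategory.isIso_iff_bijective _).2 hb
  rw [Category.assoc, Category.assoc, ← Scheme.Hom.SpecMap_residueFieldMap_fromSpecResidueField,
    ← Category.assoc, ← Category.assoc, cancel_mono, cancel_mono] at h
  rw [h]

/-- Two maps agreeing after an unramified map agree near a point where they agree on residue fields. -/
theorem exists_open_eq {U' W : X.Etale} (φ : U' ⟶ U) (a b : W ⟶ U') (h : a ≫ φ = b ≫ φ) (w : W.left)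
    (hx : a.left.base w = b.left.base w)
    (hbij : Function.Bijective (φ.left.residueFieldMap (a.left.base w))) :
    ∃ (O : W.left.Opens), w ∈ O ∧ openι W O ≫ a = openι W O ≫ b := by
  have := EtFound.etale_left φ
  let m := W.left.fromSpecResidueField w ≫ a.left
  have hl : a.left ≫ φ.left = b.left ≫ φ.left := congrArg (fun k => k.left) h
  have hm : m = W.left.fromSpecResidueField w ≫ b.left := by
    have e : m.base (IsLocalRing.closedPoint _) = a.left.base w := by
      show a.left.base ((W.left.fromSpecResidueField w).base _) = _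
      rw [Scheme.fromSpecResidueField_apply]
    refine eq_of_comp_eq (K := W.left.residueField w) φ.left _ _ ?_ ?_ ?_
    · show (W.left.fromSpecResidueField w ≫ a.left) ≫ φ.left = _
      rw [Category.assoc, hl, Category.assoc]
    · refine e.trans ?_
      show _ = b.left.base ((W.left.fromSpecResidueField w).base _)
      rw [Scheme.fromSpecResidueField_apply, hx]
    · rintro y rfl
      exact e.symm ▸ hbij
  let c : W.left ⟶ pullback φ.left φ.left := pullback.lift a.left b.left hl
  let Δ := pullback.diagonal φ.left
  refine ⟨c ⁻¹ᵁ Δ.opensRange, ⟨m.base (IsLocalRing.closedPoint _), ?_⟩, hom_ext ?_⟩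
  · have e : W.left.fromSpecResidueField w ≫ c = m ≫ Δ := by
      refine pullback.hom_ext ?_ ?_
      · simp only [Category.assoc, c, Δ, pullback.diagonal_fst, Category.comp_id]
        exact congrArg (fun t => W.left.fromSpecResidueField w ≫ t) (pullback.lift_fst _ _ _)
      · simp only [Category.assoc, c, Δ, pullback.diagonal_snd, Category.comp_id]
        exact (congrArg (fun t => W.left.fromSpecResidueField w ≫ t) (pullback.lift_snd _ _ _)).trans hm.symm
    have := congrArg (fun k => k.base (IsLocalRing.closedPoint (W.left.residueField w))) e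
    simp only [Scheme.Hom.comp_base, TopCat.coe_comp, Function.comp_apply, Scheme.fromSpecResidueField_apply] at this
    exact this.symm
  · show (c ⁻¹ᵁ Δ.opensRange).ι ≫ a.left = (c ⁻¹ᵁ Δ.opensRange).ι ≫ b.left
    have hr : Set.range ((c ⁻¹ᵁ Δ.opensRange).ι ≫ c).base ⊆ Set.range Δ.base := by
      rintro _ ⟨v, rfl⟩
      exact v.2
    have e := IsOpenImmersion.lift_fac Δ ((c ⁻¹ᵁ Δ.opensRange).ι ≫ c) hr
    have e1 := congrArg (fun k => k ≫ pullback.fst _ _) e
    have e2 := congrArg (fun k => k ≫ pullback.snd _ _) e
    simp only [Category.assoc, c, Δ, pullback.diagonal_fst, pullback.diagonal_snd, pullback.lift_fst,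
      pullback.lift_snd, Category.comp_id] at e1 e2
    exact e1.symm.trans e2

end Groth.Agent.EtExcision
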